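import Cfsg.Agent.Lib.MinDegForms.Char
import Mathlib.NumberTheory.LegendreSymbol.AddCharacter

/-!
Bookkeeping for eigenspace multiplicities under restriction and conjugation.
-/

set_option autoImplicit false

namespace Cfsg.Agent.Lib.MinDegChev

open Module Cfsg.Agent.Lib.MinDegForms

universe u u' v w

variable {α : Type u} [AddCommGroup α] [Fintype α] {β : Type u'} [AddCommGroup β] [Fintype β]
  {Γ : Type w} [Group Γ] {V : Type v} [AddCommGroup V] [Module ℂ V]
  {ρ : Representation ℂ Γ V} {x : α → Γ}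

/-- The characters of `α` with given restriction. -/
noncomputable def fibre (ι : β →+ α) (ψ : AddChar β ℂ) : Finset (AddChar α ℂ) := by
  classical exact Finset.univ.filter fun χ => χ.compAddMonoidHom ι = ψ

omit [Fintype β] in
theorem mem_fibre {ι : β →+ α} {ψ : AddChar β ℂ} {χ : AddChar α ℂ} :
    χ ∈ fibre ι ψ ↔ χ.compAddMonoidHom ι = ψ := by
  simp [fibre]

/-- The value of the representation in terms of the projections. -/
theorem rho_eq_sum (hx : ∀ a b, x (a + b) = x a * x b) (a : α) :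
    ρ (x a) = ∑ χ : AddChar α ℂ, χ a • proj ρ x χ := by
  conv_lhs => rw [← mul_one (ρ (x a)), ← sum_proj (ρ := ρ) hx, Finset.mul_sum]
  exact Finset.sum_congr rfl fun χ _ => rho_mul_proj hx χ a

/-- Projections of a subgroup. -/
theorem proj_sub (hx : ∀ a b, x (a + b) = x a * x b) (ι : β →+ α) (ψ : AddChar β ℂ) :
    proj ρ (x ∘ ι) ψ = ∑ χ ∈ fibre ι ψ, proj ρ x χ := by
  classical
  rw [proj]
  simp only [Function.comp_apply, rho_eq_sum (ρ := ρ) hx, Finset.smul_sum, smul_smul]
  rw [Finset.sum_comm, fibre, Finset.sum_filter]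
  refine Finset.sum_congr rfl fun χ _ => ?_
  rw [← Finset.sum_smul, ← Finset.mul_sum]
  have : ∀ b, ψ (-b) * χ (ι b) = (ψ⁻¹ * χ.compAddMonoidHom ι) b := fun b => by
    rw [AddChar.mul_apply, AddChar.inv_apply, AddChar.compAddMonoidHom_apply]
  simp only [this]
  by_cases h : χ.compAddMonoidHom ι = ψ
  · rw [if_pos h, h, inv_mul_cancel]
    simp [card_ne]
  · rw [if_neg h, AddChar.sum_eq_zero_of_ne_one (by simpa [inv_mul_eq_one] using Ne.symm h), mul_zero,
      zero_smul]

theorem mult_sub [FiniteDimensional ℂ V] (hx : ∀ a b, x (a + b) = x a * x b) (ι : β →+ α)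
    (ψ : AddChar β ℂ) : mult ρ (x ∘ ι) ψ = ∑ χ ∈ fibre ι ψ, mult ρ x χ := by
  have hy : ∀ a b, (x ∘ ι) (a + b) = (x ∘ ι) a * (x ∘ ι) b := fun a b => by
    simp [map_add, hx]
  have : (mult ρ (x ∘ ι) ψ : ℂ) = ((∑ χ ∈ fibre ι ψ, mult ρ x χ : ℕ) : ℂ) := by
    rw [← trace_proj hy, proj_sub hx, map_sum, Nat.cast_sum]
    exact Finset.sum_congr rfl fun χ _ => trace_proj hx χ
  exact_mod_cast this

/-- An element conjugating one abelian subgroup to another moves the projections. -/
theorem proj_conj {y : β → Γ} {g : Γ} (T : α → β) (hT : Function.Bijective T)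
    (hadd : ∀ a b, T (a + b) = T a + T b) (hA : ∀ a, g * x a = y (T a) * g)
    {χ : AddChar α ℂ} {χ' : AddChar β ℂ} (hχ : ∀ a, χ' (T a) = χ a) :
    ρ g * proj ρ x χ = proj ρ y χ' * ρ g := by
  have hneg : ∀ a, T (-a) = -T a := fun a => map_neg (AddMonoidHom.mk' T hadd) a
  rw [proj, proj, Fintype.card_of_bijective hT, mul_smul_comm, smul_mul_assoc, Finset.mul_sum, Finset.sum_mul]
  congr 1
  refine Fintype.sum_bijective T hT _ _ fun a => ?_
  simp only [mul_smul_comm, smul_mul_assoc, ← map_mul, hA a, ← hneg, hχ]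

theorem mult_conj [FiniteDimensional ℂ V] {y : β → Γ} (hx : ∀ a b, x (a + b) = x a * x b)
    (hy : ∀ a b, y (a + b) = y a * y b) {g : Γ} (T : α → β) (hT : Function.Bijective T)
    (hadd : ∀ a b, T (a + b) = T a + T b) (hA : ∀ a, g * x a = y (T a) * g)
    {χ : AddChar α ℂ} {χ' : AddChar β ℂ} (hχ : ∀ a, χ' (T a) = χ a) :
    mult ρ x χ = mult ρ y χ' := by
  have h := proj_conj (ρ := ρ) T hT hadd hA hχ
  have h1 : proj ρ y χ' = ρ g * proj ρ x χ * ρ g⁻¹ := by
    rw [h, mul_assoc, ← map_mul, mul_inv_cancel, map_one, mul_one]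
  have : (mult ρ x χ : ℂ) = mult ρ y χ' := by
    rw [← trace_proj hx, ← trace_proj hy, h1, LinearMap.trace_mul_comm, ← mul_assoc, ← map_mul,
      inv_mul_cancel, map_one, one_mul]
  exact_mod_cast this

section Counting

variable {R : Type*} [CommRing R] [Fintype R]

theorem exists_mulShift {ψ : AddChar R ℂ} (h : ψ.IsPrimitive) (χ : AddChar R ℂ) :
    ∃ c : R, AddChar.mulShift ψ c = χ := by
  have hc : Fintype.card R = Fintype.card (AddChar R ℂ) := (AddChar.card_eq).symm
  exact ((Fintype.bijective_iff_injective_and_card _).2 ⟨AddChar.to_mulShift_inj_of_isPrimitive h, hc⟩).2 χ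

omit [Fintype R] in
theorem exists_mulShift_field {L : Type*} [Field L] [Fintype L] {ψ : AddChar L ℂ} (h : ψ ≠ 1) (χ : AddChar L ℂ) :
    ∃ c : L, AddChar.mulShift ψ c = χ :=
  exists_mulShift (AddChar.IsPrimitive.of_ne_one h) χ

/-- The number of characters with trivial restriction to the first factor. -/
theorem card_fibre_inl {γ δ : Type*} [AddCommGroup γ] [Fintype γ] [AddCommGroup δ] [Fintype δ] :
    (fibre (AddMonoidHom.inl γ δ) 1).card = Fintype.card δ := by
  rw [← AddChar.card_eq (α := δ), ← Finset.card_univ]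
  refine Finset.card_nbij' (fun χ => χ.compAddMonoidHom (AddMonoidHom.inr γ δ))
    (fun χ => χ.compAddMonoidHom (AddMonoidHom.snd γ δ)) (fun _ _ => Finset.mem_univ _) ?_ ?_ ?_
  · intro χ _
    refine Finset.mem_coe.2 (mem_fibre.2 ?_)
    ext c
    simp [AddChar.map_zero_eq_one]
  · intro χ hχ
    have hχ' := mem_fibre.1 (Finset.mem_coe.1 hχ)
    ext ⟨c, d⟩
    have h1 : χ (c, d) = χ (c, 0) * χ (0, d) := by
      rw [← AddChar.map_add_eq_mul, Prod.mk_add_mk, add_zero, zero_add]
    have h2 : χ (c, 0) = 1 := by simpa using DFunLike.congr_fun hχ' c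
    simp [h1, h2]
  · intro χ _
    ext c
    simp

end Counting

end Cfsg.Agent.Lib.MinDegChev
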