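import Cfsg.Agent.Lib.Chev.TwistD4
import Cfsg.Agent.Lib.Chev.SLTwoHom
import Cfsg.Agent.Lib.Chev.InvolMono

/-!
The Heisenberg parabolic of `³D₄(q)` in explicit coordinates: root elements, tori and Weyl elements.
-/

set_option autoImplicit false
set_option maxRecDepth 4000

namespace Cfsg.Agent.Lib.MinDegChev

open Cfsg.Lie Cfsg.Agent.Lib Cfsg.Agent.Lib.Chev

local notation "X" => Cfsg.Agent.Lib.Chev.Checked.xg D4.checked
local notation "H" => Cfsg.Agent.Lib.Chev.Checked.hg D4.checked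
local notation "N₀" => Cfsg.Agent.Lib.Chev.Checked.ng D4.checked

variable {K : Type*} [Field K]

theorem n24 : chevD4.nroots = 24 := rfl

theorem rk4 : chevD4.rank = 4 := rfl

theorem sym_check :
    [14, 22, 23, 19, 16, 15, 17, 20, 21, 18, 13, 12].map (fun r => (D4.sym.r r, D4.sym.e r)) =
      [(14, false), (22, false), (23, false), (16, true), (15, false), (19, true), (20, true), (21, false),
        (17, true), (13, false), (12, false), (18, false)] := by decide +kernel

/-- The root elements of the radical which occur, in quotient coordinates. -/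
def radRoots : List ℕ := [14, 15, 16, 17, 19, 20, 21, 22]

/-- elements of the Levi root group -/
noncomputable def uG (φ : K ≃+* K) (v : K) : GL chevD4.Idx K := X 18 v * X 13 (φ v) * X 12 (φ (φ v))
/-- the first triple of the radical -/
noncomputable def aG (φ : K ≃+* K) (t : K) : GL chevD4.Idx K := X 19 t * X 16 (-φ t) * X 15 (-φ (φ t))
/-- the second triple of the radical -/
noncomputable def bG (φ : K ≃+* K) (t : K) : GL chevD4.Idx K := X 17 t * X 20 (-φ t) * X 21 (-φ (φ t))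
/-- the torus of the Levi subgroup -/
noncomputable def hG (φ : K ≃+* K) (v : K) : GL chevD4.Idx K := H 18 v * H 13 (φ v) * H 12 (φ (φ v))
/-- the Weyl element of the Levi subgroup -/
noncomputable def nG : GL chevD4.Idx K := N₀ 0 * N₀ 2 * N₀ 3

/-- trace form -/
def tr3 (φ : K ≃+* K) (t : K) : K := t + φ t + φ (φ t)

/-- norm form -/
def nm3 (φ : K ≃+* K) (t : K) : K := t * φ t * φ (φ t)

/-- the single term of a commutator of two root elements -/
theorem xg_rel {r s u : ℕ} {M : ℤ} (hr : r < 24) (hs : s < 24)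
    (h : (s == r) = false ∧ (s == chevD4.neg r) = false ∧ chevD4.commTerms r s = [(u, M, 1, 1)])
    (a b : K) : X r (-a) * X s b * X r a = X s b * X u (-(M : K) * a * b) := by
  obtain ⟨h1, h2, h3⟩ := h
  rw [D4.checked.xg_conj_eq hr hs (by simpa using h1) (by simpa using h2)]
  simp [ChevalleyDatum.commWord, h3, D4.checked.wg_cons, D4.checked.wg_nil]

theorem xg_comm {r s : ℕ} (hr : r < 24) (hs : s < 24)
    (h : (s == r) = true ∨ (s == chevD4.neg r) = false ∧ chevD4.commTerms r s = []) (a b : K) :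
    Commute (X r a) (X s b) := by
  by_cases e : s = r
  · subst e
    show X s a * X s b = X s b * X s a
    rw [D4.checked.xg_add hr, D4.checked.xg_add hr, add_comm]
  obtain ⟨h2, h3⟩ := h.resolve_left (by simpa using e)
  have := D4.checked.xg_conj_eq (F := K) hr hs e (by simpa using h2) a b
  rw [show chevD4.commWord K r s a b = [] by simp [ChevalleyDatum.commWord, h3], D4.checked.wg_nil, mul_one,
    ← D4.checked.xg_inv] at this
  show X r a * X s b = X s b * X r a
  calc X r a * X s b = X r a * ((X r a)⁻¹ * X s b * X r a) := by rw [this]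
    _ = _ := by group

theorem comm_table :
    (∀ r ∈ 23 :: 18 :: 13 :: 12 :: radRoots, (23 == r) = true ∨
      (23 == chevD4.neg r) = false ∧ chevD4.commTerms r 23 = []) ∧
    (∀ p ∈ [(19, 16), (19, 15), (16, 15), (17, 20), (17, 21), (20, 21), (18, 13), (18, 12), (13, 12),
        (14, 19), (14, 16), (14, 15), (14, 17), (14, 20), (14, 21), (22, 19), (22, 16), (22, 15),
        (22, 17), (22, 20), (22, 21), (19, 20), (19, 21), (16, 17), (16, 21), (15, 17), (15, 20),
        (18, 19), (18, 20), (18, 21), (18, 22), (13, 16), (13, 17), (13, 21), (13, 22), (12, 15),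
        (12, 17), (12, 20), (12, 22)],
      (p.2 == chevD4.neg p.1) = false ∧ chevD4.commTerms p.1 p.2 = []) := by decide +kernel

theorem rel_table :
    ∀ p ∈ [(18, 14, 19, (-1 : ℤ)), (18, 15, 20, -1), (18, 16, 21, -1), (18, 17, 22, -1),
      (13, 14, 16, 1), (13, 15, 17, 1), (13, 19, 21, 1), (13, 20, 22, 1),
      (12, 14, 15, 1), (12, 16, 17, 1), (12, 19, 20, 1), (12, 21, 22, 1),
      (22, 14, 23, -1), (19, 17, 23, -1), (16, 20, 23, -1), (15, 21, 23, -1)],
      (p.2.1 == p.1) = false ∧ (p.2.1 == chevD4.neg p.1) = false ∧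
        chevD4.commTerms p.1 p.2.1 = [(p.2.2.1, p.2.2.2, 1, 1)] := by decide +kernel

theorem comm_pair (r s : ℕ) (h : (r, s) ∈ [(19, 16), (19, 15), (16, 15), (17, 20), (17, 21), (20, 21), (18, 13), (18, 12), (13, 12),
        (14, 19), (14, 16), (14, 15), (14, 17), (14, 20), (14, 21), (22, 19), (22, 16), (22, 15),
        (22, 17), (22, 20), (22, 21), (19, 20), (19, 21), (16, 17), (16, 21), (15, 17), (15, 20),
        (18, 19), (18, 20), (18, 21), (18, 22), (13, 16), (13, 17), (13, 21), (13, 22), (12, 15),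
        (12, 17), (12, 20), (12, 22)])
    (hr : r < 24) (hs : s < 24) (a b : K) : Commute (X r a) (X s b) :=
  xg_comm hr hs (Or.inr (comm_table.2 _ h)) a b

theorem comm_top (r : ℕ) (h : r ∈ 23 :: 18 :: 13 :: 12 :: radRoots) (hr : r < 24) (a b : K) :
    Commute (X r a) (X 23 b) :=
  xg_comm hr (by norm_num) (comm_table.1 _ h) a b

theorem rel_pair (r s u : ℕ) (M : ℤ) (hr : r < 24) (hs : s < 24)
    (h : (r, s, u, M) ∈ [(18, 14, 19, (-1 : ℤ)), (18, 15, 20, -1), (18, 16, 21, -1), (18, 17, 22, -1),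
      (13, 14, 16, 1), (13, 15, 17, 1), (13, 19, 21, 1), (13, 20, 22, 1),
      (12, 14, 15, 1), (12, 16, 17, 1), (12, 19, 20, 1), (12, 21, 22, 1),
      (22, 14, 23, -1), (19, 17, 23, -1), (16, 20, 23, -1), (15, 21, 23, -1)]) (a b : K) :
    X r (-a) * X s b * X r a = X s b * X u (-(M : K) * a * b) :=
  xg_rel hr hs (rel_table _ h) a b

section Fixed

variable {q : ℕ} [Fintype K] (φ : K ≃+* K) (hφ : ∀ t, φ t = t ^ q) (hK : Fintype.card K = q ^ 3)
include hφ hK

theorem phi3 (t : K) : φ (φ (φ t)) = t := frob_per hφ hK t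

theorem mem_of_act {g : GL chevD4.Idx K} (h1 : g ∈ chevD4.group K) (h2 : (D4.tw φ).act g = g) :
    g ∈ twistedD4 K q := by
  rw [D4.eq_fixed φ hφ hK]
  exact ⟨h1, h2⟩

omit hφ hK [Fintype K] in
theorem act_xg {r r' : ℕ} {e : Bool} (hr : r < 24) (h : D4.sym.r r = r' ∧ D4.sym.e r = e) (t : K) :
    (D4.tw φ).act (X r t) = X r' (((sgn e : ℤ) : K) * φ t) := by
  rw [(D4.tw φ).map_xg r hr]
  show X (D4.sym.r r) (((sgn (D4.sym.e r) : ℤ) : K) * φ t) = _
  rw [h.1, h.2]

omit hφ hK [Fintype K] in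
theorem sym_vals :
    (D4.sym.r 14 = 14 ∧ D4.sym.e 14 = false) ∧ (D4.sym.r 22 = 22 ∧ D4.sym.e 22 = false) ∧
    (D4.sym.r 23 = 23 ∧ D4.sym.e 23 = false) ∧
    (D4.sym.r 19 = 16 ∧ D4.sym.e 19 = true) ∧ (D4.sym.r 16 = 15 ∧ D4.sym.e 16 = false) ∧
    (D4.sym.r 15 = 19 ∧ D4.sym.e 15 = true) ∧
    (D4.sym.r 17 = 20 ∧ D4.sym.e 17 = true) ∧ (D4.sym.r 20 = 21 ∧ D4.sym.e 20 = false) ∧
    (D4.sym.r 21 = 17 ∧ D4.sym.e 21 = true) ∧
    (D4.sym.r 18 = 13 ∧ D4.sym.e 18 = false) ∧ (D4.sym.r 13 = 12 ∧ D4.sym.e 13 = false) ∧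
    (D4.sym.r 12 = 18 ∧ D4.sym.e 12 = false) := by decide +kernel

theorem xg_fixed {r : ℕ} (hr : r ∈ [14, 22, 23]) {c : K} (hc : φ c = c) : X r c ∈ twistedD4 K q := by
  simp only [List.mem_cons, List.not_mem_nil, or_false] at hr
  rcases hr with rfl | rfl | rfl
  all_goals refine mem_of_act φ hφ hK (D4.checked.xg_mem_group (by norm_num [n24]) c) ?_
  · rw [act_xg φ (by norm_num) sym_vals.1]; simp [sgn, hc]
  · rw [act_xg φ (by norm_num) sym_vals.2.1]; simp [sgn, hc]
  · rw [act_xg φ (by norm_num) sym_vals.2.2.1]; simp [sgn, hc]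

theorem aG_fixed (t : K) : aG φ t ∈ twistedD4 K q := by
  have m := fun r (h : r < 24) (t : K) => D4.checked.xg_mem_group (F := K) (r := r) h t
  refine mem_of_act φ hφ hK (mul_mem (mul_mem (m 19 (by norm_num) _) (m 16 (by norm_num) _))
    (m 15 (by norm_num) _)) ?_
  obtain ⟨-, -, -, h19, h16, h15, -⟩ := sym_vals
  rw [aG, (D4.tw φ).act_mul (mul_mem (m 19 (by norm_num) _) (m 16 (by norm_num) _)) (m 15 (by norm_num) _),
    (D4.tw φ).act_mul (m 19 (by norm_num) _) (m 16 (by norm_num) _), act_xg φ (by norm_num) h19,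
    act_xg φ (by norm_num) h16, act_xg φ (by norm_num) h15]
  simp only [sgn, cond_true, cond_false, Int.cast_neg, Int.cast_one, neg_mul, one_mul, map_neg, neg_neg,
    phi3 φ hφ hK]
  have c1 := comm_pair (K := K) 19 16 (by simp) (by norm_num) (by norm_num) t (-φ t)
  have c2 := comm_pair (K := K) 19 15 (by simp) (by norm_num) (by norm_num) t (-φ (φ t))
  rw [(c1.mul_right c2).symm.eq, mul_assoc]

theorem bG_fixed (t : K) : bG φ t ∈ twistedD4 K q := by
  have m := fun r (h : r < 24) (t : K) => D4.checked.xg_mem_group (F := K) (r := r) h t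
  refine mem_of_act φ hφ hK (mul_mem (mul_mem (m 17 (by norm_num) _) (m 20 (by norm_num) _))
    (m 21 (by norm_num) _)) ?_
  obtain ⟨-, -, -, -, -, -, h17, h20, h21, -⟩ := sym_vals
  rw [bG, (D4.tw φ).act_mul (mul_mem (m 17 (by norm_num) _) (m 20 (by norm_num) _)) (m 21 (by norm_num) _),
    (D4.tw φ).act_mul (m 17 (by norm_num) _) (m 20 (by norm_num) _), act_xg φ (by norm_num) h17,
    act_xg φ (by norm_num) h20, act_xg φ (by norm_num) h21]
  simp only [sgn, cond_true, cond_false, Int.cast_neg, Int.cast_one, neg_mul, one_mul, map_neg, neg_neg,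
    phi3 φ hφ hK]
  have c1 := comm_pair (K := K) 17 20 (by simp) (by norm_num) (by norm_num) t (-φ t)
  have c2 := comm_pair (K := K) 17 21 (by simp) (by norm_num) (by norm_num) t (-φ (φ t))
  rw [(c1.mul_right c2).symm.eq, mul_assoc]

theorem uG_fixed (t : K) : uG φ t ∈ twistedD4 K q := by
  have m := fun r (h : r < 24) (t : K) => D4.checked.xg_mem_group (F := K) (r := r) h t
  refine mem_of_act φ hφ hK (mul_mem (mul_mem (m 18 (by norm_num) _) (m 13 (by norm_num) _))
    (m 12 (by norm_num) _)) ?_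
  obtain ⟨-, -, -, -, -, -, -, -, -, h18, h13, h12⟩ := sym_vals
  rw [uG, (D4.tw φ).act_mul (mul_mem (m 18 (by norm_num) _) (m 13 (by norm_num) _)) (m 12 (by norm_num) _),
    (D4.tw φ).act_mul (m 18 (by norm_num) _) (m 13 (by norm_num) _), act_xg φ (by norm_num) h18,
    act_xg φ (by norm_num) h13, act_xg φ (by norm_num) h12]
  simp only [sgn, cond_false, Int.cast_one, one_mul, phi3 φ hφ hK]
  have c1 := comm_pair (K := K) 18 13 (by simp) (by norm_num) (by norm_num) t (φ t)
  have c2 := comm_pair (K := K) 18 12 (by simp) (by norm_num) (by norm_num) t (φ (φ t))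
  rw [(c1.mul_right c2).symm.eq, mul_assoc]

theorem hg_fixed {r : ℕ} (hr : r ∈ [14, 23]) {k : K} (hk : k ≠ 0) (hc : φ k = k) :
    H r k ∈ twistedD4 K q := by
  simp only [List.mem_cons, List.not_mem_nil, or_false] at hr
  rcases hr with rfl | rfl
  all_goals
    refine mem_of_act φ hφ hK (D4.checked.diag_le_group (D4.checked.hg_mem (by norm_num [n24]) hk)) ?_
    rw [(D4.tw φ).act_hg (by norm_num [n24]) hk]
    show H (D4.sym.r _) (φ k) = _
    rw [hc]
  · rw [sym_vals.1.1]
  · rw [sym_vals.2.2.1.1]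

theorem hG_fixed {v : K} (hv : v ≠ 0) : hG φ v ∈ twistedD4 K q := by
  have h1 : φ v ≠ 0 := (map_ne_zero φ).2 hv
  have h2 : φ (φ v) ≠ 0 := (map_ne_zero φ).2 h1
  have m := fun r (h : r < 24) (t : K) (ht : t ≠ 0) =>
    D4.checked.diag_le_group (D4.checked.hg_mem (F := K) (r := r) h ht)
  have d := fun r (h : r < 24) (t : K) (ht : t ≠ 0) => D4.checked.hg_mem (F := K) (r := r) h ht
  refine mem_of_act φ hφ hK (mul_mem (mul_mem (m 18 (by norm_num) _ hv) (m 13 (by norm_num) _ h1))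
    (m 12 (by norm_num) _ h2)) ?_
  obtain ⟨-, -, -, -, -, -, -, -, -, h18, h13, h12⟩ := sym_vals
  rw [hG, (D4.tw φ).act_mul (mul_mem (m 18 (by norm_num) _ hv) (m 13 (by norm_num) _ h1)) (m 12 (by norm_num) _ h2),
    (D4.tw φ).act_mul (m 18 (by norm_num) _ hv) (m 13 (by norm_num) _ h1), (D4.tw φ).act_hg (by norm_num [n24]) hv,
    (D4.tw φ).act_hg (by norm_num [n24]) h1, (D4.tw φ).act_hg (by norm_num [n24]) h2]
  show H (D4.sym.r 18) (φ v) * H (D4.sym.r 13) (φ (φ v)) * H (D4.sym.r 12) (φ (φ (φ v))) = _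
  rw [h18.1, h13.1, h12.1, phi3 φ hφ hK]
  rw [D4.checked.diag_comm (mul_mem (d 13 (by norm_num) _ h1) (d 12 (by norm_num) _ h2)) (d 18 (by norm_num) _ hv), mul_assoc]

theorem nG_fixed : nG ∈ twistedD4 K q := by
  have h := (D4.tw_orth φ).wN_mem (D4.gens φ hφ hK) (j := 0) (by norm_num [rk4])
  have e : (D4.tw φ).wN 3 0 = nG := by
    have hp0 : D4.sym.p 0 = 2 := (D4.node_check 0 (by norm_num)).1
    have hp2 : D4.sym.p 2 = 3 := (D4.node_check 2 (by norm_num)).1
    rw [Twist.wN, D4.len_simple φ (by norm_num), if_neg (by norm_num)]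
    simp only [Twist.orbProd, List.range_succ, List.range_zero, List.nil_append, List.cons_append,
      List.map_cons, List.map_nil, List.prod_cons, List.prod_nil, mul_one, (D4.tw φ).iter_ng (j := 0) (by norm_num [rk4])]
    show N₀ 0 * (N₀ (D4.sym.p 0) * N₀ (D4.sym.p (D4.sym.p 0))) = _
    rw [hp0, hp2, nG, mul_assoc]
  rwa [e] at h

theorem ng1_fixed : N₀ 1 ∈ twistedD4 K q := by
  have h := (D4.tw_orth φ).wN_mem (D4.gens φ hφ hK) (j := 1) (by norm_num [rk4])
  have e : (D4.tw φ).wN 3 1 = N₀ 1 := by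
    rw [Twist.wN, D4.len_simple φ (by norm_num), if_pos rfl]
    simp [Twist.orbProd]
  rwa [e] at h

end Fixed

end Cfsg.Agent.Lib.MinDegChev
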