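import Cfsg.Agent.Lib.MinDegChev.TriD4Top

/-!
Counting on the abelian subgroup `X_23 X_14 aG` of `³D₄(q)`.
-/

set_option autoImplicit false
set_option maxRecDepth 4000

namespace Cfsg.Agent.Lib.MinDegChev

open Cfsg.Lie Cfsg.Agent.Lib Cfsg.Agent.Lib.Chev Cfsg.Agent.Lib.MinDegForms Module

local notation "X" => Cfsg.Agent.Lib.Chev.Checked.xg D4.checked
local notation "N₀" => Cfsg.Agent.Lib.Chev.Checked.ng D4.checked

theorem card_fibre_equiv {γ δ α : Type*} [AddCommGroup γ] [Fintype γ] [AddCommGroup δ] [Fintype δ]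
    [AddCommGroup α] [Fintype α] (e : γ × δ ≃+ α) (ι : γ →+ α) (h : ∀ c, ι c = e (c, 0)) :
    (fibre ι 1).card = Fintype.card δ := by
  rw [← card_fibre_inl (γ := γ) (δ := δ)]
  refine Finset.card_nbij' (fun χ => χ.compAddMonoidHom e.toAddMonoidHom)
    (fun χ => χ.compAddMonoidHom e.symm.toAddMonoidHom) ?_ ?_ ?_ ?_
  · intro χ hχ
    refine Finset.mem_coe.2 (mem_fibre.2 ?_)
    rw [← mem_fibre.1 (Finset.mem_coe.1 hχ)]
    ext c
    simp [h]
  · intro χ hχ
    refine Finset.mem_coe.2 (mem_fibre.2 ?_)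
    rw [← mem_fibre.1 (Finset.mem_coe.1 hχ)]
    ext c
    simp [h]
  · intro χ _
    ext c
    simp
  · intro χ _
    ext c
    simp

variable {K : Type*} [Field K] [Fintype K] {q : ℕ} (φ : K ≃+* K)
variable (hφ : ∀ t, φ t = t ^ q) (hK : Fintype.card K = q ^ 3)
variable {V : Type*} [AddCommGroup V] [Module ℂ V] [FiniteDimensional ℂ V]
  (ρ : Representation ℂ ↥(twistedD4 K q) V) (hq : 2 ≤ q)

/-- both extreme coordinates -/
def iB : Fld φ × Fld φ →+ CoA φ :=
  (AddEquiv.prodAssoc : (Fld φ × Fld φ) × K ≃+ CoA φ).toAddMonoidHom.comp (AddMonoidHom.inl _ _)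

/-- the dimension of the fixed space of both extreme root groups -/
noncomputable def bothFix [Fintype (Fld φ)] : ℕ :=
  ∑ χ ∈ fibre (iB φ) 1, mult ρ (xA φ hφ hK) χ

include hq

theorem counts [Fintype (Fld φ)] (hne : ∃ c : Fld φ, ρ (xA φ hφ hK (iC φ c)) ≠ 1) :
    ∃ μ : ℕ, 0 < μ ∧
      finrank ℂ V = mult ρ (xA φ hφ hK ∘ iC φ) 1 + (q ^ 5 - q ^ 4) * μ ∧
      mult ρ (xA φ hφ hK ∘ iC φ) 1 = bothFix φ hφ hK ρ + (q ^ 4 - q ^ 3) * μ := by
  classical
  have hx := xA_add φ hφ hK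
  have hF : Fintype.card (Fld φ) = q := by rw [← Nat.card_eq_fintype_card]; exact card_fld φ hφ hK hq
  have hC : ∀ a b, (xA φ hφ hK ∘ iC φ) (a + b) = (xA φ hφ hK ∘ iC φ) a * (xA φ hφ hK ∘ iC φ) b :=
    fun a b => by simp [map_add, hx]
  have hS : ∀ a b, (xA φ hφ hK ∘ iS φ) (a + b) = (xA φ hφ hK ∘ iS φ) a * (xA φ hφ hK ∘ iS φ) b :=
    fun a b => by simp [map_add, hx]
  obtain ⟨c, hc⟩ := hne
  obtain ⟨l, hl, hl0⟩ := exists_ne_one (ρ := ρ) hC hc
  rw [mult_sub hx] at hl0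
  obtain ⟨χ₁, hχ₁, h1pos⟩ : ∃ χ ∈ fibre (iC φ) l, 0 < mult ρ (xA φ hφ hK) χ := by
    by_contra hh
    push Not at hh
    rw [Finset.sum_eq_zero (fun χ h => Nat.le_zero.1 (hh χ h))] at hl0
    exact lt_irrefl _ hl0
  set μ := mult ρ (xA φ hφ hK) χ₁
  have hμ : ∀ χ ∉ fibre (iC φ) 1, mult ρ (xA φ hφ hK) χ = μ := fun χ h =>
    mult_top_eq φ hφ hK ρ hq χ χ₁ (fun e => h (mem_fibre.2 e)) (by rw [mem_fibre.1 hχ₁]; exact hl)
  have cC : (fibre (iC φ) 1).card = q ^ 4 := by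
    rw [card_fibre_equiv (δ := Fld φ × K) (AddEquiv.refl _) (iC φ) (fun _ => rfl), Fintype.card_prod, hF, hK]; ring
  have cS : (fibre (iS φ) 1).card = q ^ 4 := by
    rw [card_fibre_equiv (δ := Fld φ × K)
      { toFun := fun p => (p.2.1, p.1, p.2.2), invFun := fun a => (a.2.1, a.1, a.2.2),
        left_inv := fun _ => rfl, right_inv := fun _ => rfl, map_add' := fun _ _ => rfl }
      (iS φ) (fun _ => rfl), Fintype.card_prod, hF, hK]; ring
  have cB : (fibre (iB φ) 1).card = q ^ 3 := by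
    rw [card_fibre_equiv (δ := K) AddEquiv.prodAssoc (iB φ) (fun _ => rfl), hK]
  have hB : fibre (iB φ) 1 = (fibre (iS φ) 1).filter (fun χ => χ ∈ fibre (iC φ) 1) := by
    ext χ
    rw [Finset.mem_filter, mem_fibre, mem_fibre, mem_fibre]
    constructor
    · intro h
      constructor <;> ext c
      · simpa [iB, iS] using DFunLike.congr_fun h ((0 : Fld φ), c)
      · simpa [iB, iC, Prod.zero_eq_mk] using DFunLike.congr_fun h (c, (0 : Fld φ))
    · rintro ⟨hs, hc⟩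
      ext ⟨c, s⟩
      have e : iB φ (c, s) = iC φ c + iS φ s := by simp [iB, iC, iS]
      simp [e, AddChar.map_add_eq_mul, ← AddChar.compAddMonoidHom_apply, hs, hc]
  refine ⟨μ, h1pos, ?_, ?_⟩
  · rw [mult_sub hx, ← sum_mult (ρ := ρ) hx,
      ← Finset.sum_add_sum_compl (fibre (iC φ) 1) (mult ρ (xA φ hφ hK)),
      Finset.sum_congr rfl (fun χ h => hμ χ (Finset.mem_compl.1 h)), Finset.sum_const, Finset.card_compl,
      AddChar.card_eq, cC, Fintype.card_prod, Fintype.card_prod, hF, hK, smul_eq_mul]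
    ring_nf
  · have hconj : mult ρ (xA φ hφ hK ∘ iC φ) 1 = mult ρ (xA φ hφ hK ∘ iS φ) 1 := by
      refine mult_conj hC hS (g := (⟨_, mul_mem (nG_fixed φ hφ hK) (ng1_fixed φ hφ hK)⟩ : ↥(twistedD4 K q)))
        (fun c => -c) neg_involutive.bijective (fun a b => neg_add a b) (fun a => conj_form (Subtype.ext ?_))
        (fun a => rfl)
      show nG * N₀ 1 * (xA φ hφ hK (iC φ a) : GL chevD4.Idx K) * (nG * N₀ 1)⁻¹ =
        (xA φ hφ hK (iS φ (-a)) : GL chevD4.Idx K)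
      rw [coe_xA_iC, coe_xA_iS, g_conj_top, NegMemClass.coe_neg]
    rw [hconj, mult_sub hx, bothFix, hB,
      ← Finset.sum_filter_add_sum_filter_not (fibre (iS φ) 1) (fun χ => χ ∈ fibre (iC φ) 1)]
    congr 1
    rw [Finset.sum_congr rfl (fun χ h => hμ χ (Finset.mem_filter.1 h).2), Finset.sum_const, smul_eq_mul]
    congr 1
    have := Finset.card_filter_add_card_filter_not (s := fibre (iS φ) 1) (fun χ => χ ∈ fibre (iC φ) 1)
    rw [cS, ← hB, cB] at this
    omega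

omit hq in
/-- the trace of the product of the two projections -/
theorem trace_both [Fintype (Fld φ)] :
    LinearMap.trace ℂ V (proj ρ (xA φ hφ hK ∘ iS φ) 1 * proj ρ (xA φ hφ hK ∘ iC φ) 1) =
      (bothFix φ hφ hK ρ : ℂ) := by
  classical
  have hx := xA_add φ hφ hK
  rw [proj_sub hx, proj_sub hx, Finset.sum_mul_sum]
  simp only [proj_mul_proj hx, Finset.sum_ite_eq]
  rw [bothFix, Nat.cast_sum, ← Finset.sum_filter, map_sum]
  refine Finset.sum_congr ?_ (fun χ _ => trace_proj hx χ)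
  ext χ
  rw [Finset.mem_filter, mem_fibre, mem_fibre, mem_fibre]
  constructor
  · rintro ⟨hs, hc⟩
    ext ⟨c, s⟩
    have e : iB φ (c, s) = iC φ c + iS φ s := by simp [iB, iC, iS]
    simp [e, AddChar.map_add_eq_mul, ← AddChar.compAddMonoidHom_apply, hs, hc]
  · intro h
    constructor <;> ext c
    · simpa [iB, iS] using DFunLike.congr_fun h ((0 : Fld φ), c)
    · simpa [iB, iC, Prod.zero_eq_mk] using DFunLike.congr_fun h (c, (0 : Fld φ))

end Cfsg.Agent.Lib.MinDegChev
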