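import Cfsg.Agent.Lib.MinDegChev.TriD4Fix

/-!
The degree bound for `³D₄(q)`.
-/

set_option autoImplicit false
set_option maxRecDepth 4000

namespace Cfsg.Agent.Lib.MinDegChev

open Cfsg.Lie Cfsg.Agent.Lib Cfsg.Agent.Lib.Chev Cfsg.Agent.Lib.MinDegForms Module

local notation "X" => Cfsg.Agent.Lib.Chev.Checked.xg D4.checked
local notation "H" => Cfsg.Agent.Lib.Chev.Checked.hg D4.checked

theorem comp_ne_one {α : Type*} [AddCommGroup α] {χ : AddChar α ℂ} {T : α →+ α}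
    (hT : Function.Surjective T) (hχ : χ ≠ 1) : χ.compAddMonoidHom T ≠ 1 := by
  intro h
  refine hχ (DFunLike.ext _ _ fun a => ?_)
  obtain ⟨b, rfl⟩ := hT a
  exact DFunLike.congr_fun h b

section

variable {K : Type*} [Field K] [Fintype K] {q : ℕ} (φ : K ≃+* K)

/-- the second coordinate -/
def iM1 : K →+ CoV φ := (AddMonoidHom.inr (Fld φ) (K × K × Fld φ)).comp (AddMonoidHom.inl _ _)
/-- the third coordinate -/
def iM2 : K →+ CoV φ :=
  (AddMonoidHom.inr (Fld φ) (K × K × Fld φ)).comp ((AddMonoidHom.inr _ _).comp (AddMonoidHom.inl _ _))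
/-- the last coordinate -/
def iT : Fld φ →+ CoV φ :=
  (AddMonoidHom.inr (Fld φ) (K × K × Fld φ)).comp ((AddMonoidHom.inr _ _).comp (AddMonoidHom.inr _ _))

omit [Fintype K] in
theorem char_split (χ : AddChar (CoV φ) ℂ) (f : CoV φ) :
    χ f = χ (iW φ f.1) * χ (iM1 φ f.2.1) * χ (iM2 φ f.2.2.1) * χ (iT φ f.2.2.2) := by
  rw [← AddChar.map_add_eq_mul, ← AddChar.map_add_eq_mul, ← AddChar.map_add_eq_mul]
  congr 1
  simp [iW, iM1, iM2, iT]

/-- scalar multiplication -/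
def scal (k : Fld φ) : CoV φ →+ CoV φ :=
  AddMonoidHom.mk' (fun f => (k * f.1, (k : K) * f.2.1, (k : K) * f.2.2.1, k * f.2.2.2))
    (fun f g => by simp [mul_add])

omit [Fintype K] in
theorem scal_inj {k : Fld φ} (hk : k ≠ 0) : Function.Injective (scal φ k) := by
  intro f g h
  have hk1 : (k : K) ≠ 0 := by simpa using hk
  simp only [scal, AddMonoidHom.mk'_apply, Prod.mk.injEq] at h
  exact Prod.ext (mul_left_cancel₀ hk h.1) (Prod.ext (mul_left_cancel₀ hk1 h.2.1)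
    (Prod.ext (mul_left_cancel₀ hk1 h.2.2.1) (mul_left_cancel₀ hk h.2.2.2)))

theorem twist_inj {χ : AddChar (CoV φ) ℂ} (hχ : χ ≠ 1) {k k' : Fld φ}
    (h : χ.compAddMonoidHom (scal φ k) = χ.compAddMonoidHom (scal φ k')) : k = k' := by
  by_contra hne
  refine hχ (DFunLike.ext _ _ fun f => ?_)
  obtain ⟨g, rfl⟩ := (Finite.injective_iff_surjective.1 (scal_inj φ (sub_ne_zero.2 hne))) f
  have h1 := DFunLike.congr_fun h g
  rw [AddChar.compAddMonoidHom_apply, AddChar.compAddMonoidHom_apply] at h1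
  have e : scal φ (k - k') g = scal φ k g - scal φ k' g := by
    simp [scal, sub_mul]
  rw [e, AddChar.map_sub_eq_div, h1, div_self (AddChar.val_isUnit χ _).ne_zero, AddChar.one_apply]

variable (hφ : ∀ t, φ t = t ^ q) (hK : Fintype.card K = q ^ 3) (hq : 2 ≤ q)

/-- the norm as an element of the fixed field -/
def nF (v : K) : Fld φ := ⟨nm3 φ v, nm3_mem φ hφ hK hq v⟩

/-- action of the Levi root group -/
def levU (v : K) : CoV φ →+ CoV φ :=
  AddMonoidHom.mk' (fun f => (f.1, f.2.1 + v * f.1,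
      f.2.2.1 + (φ v * φ (φ f.2.1) + φ (φ v) * φ f.2.1) + φ v * φ (φ v) * f.1,
      f.2.2.2 + trF φ hφ hK hq (v * f.2.2.1) + trF φ hφ hK hq (φ v * φ (φ v) * f.2.1) + nF φ hφ hK hq v * f.1))
    (fun f g => by
      refine Prod.ext rfl (Prod.ext ?_ (Prod.ext ?_ ?_))
      · simp only [Prod.fst_add, Prod.snd_add, AddMemClass.coe_add]; ring
      · simp only [Prod.fst_add, Prod.snd_add, AddMemClass.coe_add, map_add]; ring
      · simp only [Prod.fst_add, Prod.snd_add, mul_add, AddMemClass.coe_add, map_add]; ring)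

theorem levU_inj (v : K) : Function.Injective (levU φ hφ hK hq v) := by
  intro f g h
  simp only [levU, AddMonoidHom.mk'_apply, Prod.mk.injEq] at h
  obtain ⟨h1, h2, h3, h4⟩ := h
  rw [h1, add_left_inj] at h2
  rw [h1, h2, add_left_inj, add_left_inj] at h3
  rw [h1, h2, h3, add_left_inj, add_left_inj, add_left_inj] at h4
  exact Prod.ext h1 (Prod.ext h2 (Prod.ext h3 h4))

theorem jV_levU (v : K) (f : CoV φ) : jV φ (levU φ hφ hK hq v f) = TU φ v (jV φ f) := by
  simp [jV, levU, TU, nF]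

/-- action of the Levi torus -/
def levH (v : K) : CoV φ →+ CoV φ :=
  AddMonoidHom.mk' (fun f => ((nF φ hφ hK hq v)⁻¹ * f.1, v * (φ v * φ (φ v))⁻¹ * f.2.1,
      φ v * φ (φ v) * v⁻¹ * f.2.2.1, nF φ hφ hK hq v * f.2.2.2))
    (fun f g => by simp [mul_add])

theorem levH_inj {v : K} (hv : v ≠ 0) : Function.Injective (levH φ hφ hK hq v) := by
  have h1 : φ v ≠ 0 := (map_ne_zero φ).2 hv
  have h2 : φ (φ v) ≠ 0 := (map_ne_zero φ).2 h1
  have hn : nF φ hφ hK hq v ≠ 0 := fun h => by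
    have := congrArg Subtype.val h
    simp [nF, nm3, hv] at this
  intro f g h
  simp only [levH, AddMonoidHom.mk'_apply, Prod.mk.injEq] at h
  exact Prod.ext (mul_left_cancel₀ (inv_ne_zero hn) h.1)
    (Prod.ext (mul_left_cancel₀ (by simp [hv]) h.2.1)
      (Prod.ext (mul_left_cancel₀ (by simp [hv]) h.2.2.1) (mul_left_cancel₀ hn h.2.2.2)))

theorem jV_levH (v : K) (f : CoV φ) : jV φ (levH φ hφ hK hq v f) =
    ((nm3 φ v)⁻¹ * (jV φ f).1, v * (φ v * φ (φ v))⁻¹ * (jV φ f).2.1,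
      φ v * φ (φ v) * v⁻¹ * (jV φ f).2.2.1, nm3 φ v * (jV φ f).2.2.2) := by
  simp [jV, levH, nF]

/-- action of the Levi Weyl element -/
def levN : CoV φ →+ CoV φ :=
  AddMonoidHom.mk' (fun f => (f.2.2.2, -f.2.2.1, f.2.1, -f.1)) (fun f g => by simp [add_comm])

omit [Fintype K] in
theorem levN_inj : Function.Injective (levN φ) := by
  intro f g h
  simp only [levN, AddMonoidHom.mk'_apply, Prod.mk.injEq, neg_inj] at h
  exact Prod.ext h.2.2.2 (Prod.ext h.2.2.1 (Prod.ext h.2.1 h.1))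

variable {U : Type*} [AddCommGroup U] [Module ℂ U] [FiniteDimensional ℂ U]
  (ρ : Representation ℂ ↥(twistedD4 K q) U) [Fintype (Fld φ)]

theorem multW_levU (v : K) (χ : AddChar (CoV φ) ℂ) :
    multW φ hφ hK ρ (χ.compAddMonoidHom (levU φ hφ hK hq v)) = multW φ hφ hK ρ χ := by
  refine multW_comp φ hφ hK ρ ⟨_, mem_NW_C23 φ hφ hK ρ (inv_mem (uG_fixed φ hφ hK v))
    (inv_mem (uG_mem φ v))⟩ _ (levU_inj φ hφ hK hq v) (fun f => ?_) χ
  rw [jV_levU, inv_inv]
  exact uG_conj φ (phi3 φ hφ hK) v _ (fld_spec φ _)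

theorem multW_levH {v : K} (hv : v ≠ 0) (χ : AddChar (CoV φ) ℂ) :
    multW φ hφ hK ρ (χ.compAddMonoidHom (levH φ hφ hK hq v)) = multW φ hφ hK ρ χ := by
  refine multW_comp φ hφ hK ρ ⟨_, mem_NW φ hφ hK ρ (hG_fixed φ hφ hK hv) 1 one_ne_zero (fun c => by
    rw [hG_top φ hv, OneMemClass.coe_one, one_mul])⟩ _ (levH_inj φ hφ hK hq hv) (fun f => ?_) χ
  refine ⟨0, ?_⟩
  rw [jV_levH, D4.checked.xg_zero, mul_one]
  exact hG_conj φ (phi3 φ hφ hK) hv _

theorem multW_levN (χ : AddChar (CoV φ) ℂ) :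
    multW φ hφ hK ρ (χ.compAddMonoidHom (levN φ)) = multW φ hφ hK ρ χ := by
  refine multW_comp φ hφ hK ρ ⟨_, mem_NW φ hφ hK ρ (nG_fixed φ hφ hK) 1 one_ne_zero (fun c => by
    rw [nG_top, OneMemClass.coe_one, one_mul])⟩ _ (levN_inj φ) (fun f => ?_) χ
  have e : jV φ (levN φ f) = ((jV φ f).2.2.2, -(jV φ f).2.2.1, (jV φ f).2.1, -(jV φ f).1) := by
    simp [jV, levN]
  rw [e]
  exact nG_conj φ _

theorem multW_scal {k : Fld φ} (hk : k ≠ 0) (χ : AddChar (CoV φ) ℂ) :
    multW φ hφ hK ρ (χ.compAddMonoidHom (scal φ k)) = multW φ hφ hK ρ χ := by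
  have hk1 : (k : K) ≠ 0 := by simpa using hk
  refine multW_comp φ hφ hK ρ ⟨_, mem_NW φ hφ hK ρ (hg_fixed φ hφ hK (r := 23) (by simp) hk1 (fld_spec φ k))
    (k * k) (mul_ne_zero hk hk) (fun c => by rw [h23_top hk1, MulMemClass.coe_mul])⟩ _ (scal_inj φ hk)
    (fun f => ?_) χ
  refine ⟨0, ?_⟩
  rw [D4.checked.xg_zero, mul_one]
  exact h23_conj φ hk1 (fld_spec φ k) _

include hq in
/-- If the top multiplicity is one, the doubly fixed space has dimension at least `q - 1`. -/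
theorem bothFix_ge (hD : mult ρ (xA φ hφ hK ∘ iC φ) 1 = bothFix φ hφ hK ρ + (q ^ 4 - q ^ 3)) :
    q - 1 ≤ bothFix φ hφ hK ρ := by
  classical
  have hF : Fintype.card (Fld φ) = q := by rw [← Nat.card_eq_fintype_card]; exact card_fld φ hφ hK hq
  set Fs : Finset (Fld φ) := Finset.univ.erase 0
  have hFs : Fs.card = q - 1 := by
    rw [Finset.card_erase_of_mem (Finset.mem_univ _), Finset.card_univ, hF]
  let tw : AddChar (CoV φ) ℂ → Finset (AddChar (CoV φ) ℂ) := fun χ =>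
    Fs.image (fun k => χ.compAddMonoidHom (scal φ k))
  have htw : ∀ χ, χ ≠ 1 → (tw χ).card = q - 1 := fun χ hχ => by
    rw [← hFs]
    exact Finset.card_image_of_injOn (fun k _ k' _ h => twist_inj φ hχ h)
  rw [← sum_multW_s φ hφ hK ρ]
  by_contra hlt
  have hs0 : ∀ χ : AddChar (CoV φ) ℂ, χ ≠ 1 → χ.compAddMonoidHom (iW φ) = 1 → multW φ hφ hK ρ χ = 0 := by
    intro χ hχ hs
    by_contra hm
    refine hlt ?_
    rw [← htw χ hχ]
    refine le_trans ?_ (Finset.sum_le_sum_of_subset (s := tw χ) ?_)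
    · simpa using Finset.card_nsmul_le_sum (tw χ) (multW φ hφ hK ρ) 1 (fun ξ hξ => by
        obtain ⟨k, hk, rfl⟩ := Finset.mem_image.1 hξ
        rw [multW_scal φ hφ hK ρ (Finset.ne_of_mem_erase hk)]
        omega)
    · intro ξ hξ
      obtain ⟨k, hk, rfl⟩ := Finset.mem_image.1 hξ
      refine mem_fibre.2 (DFunLike.ext _ _ fun s => ?_)
      have e : scal φ k (iW φ s) = iW φ (k * s) := by simp [scal, iW]
      rw [AddChar.compAddMonoidHom_apply, AddChar.compAddMonoidHom_apply, e, ← AddChar.compAddMonoidHom_apply, hs]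
      rfl
  set M := Finset.univ.filter (fun χ : AddChar (CoV φ) ℂ => χ ≠ 1 ∧ 0 < multW φ hφ hK ρ χ) with hMdef
  have memM : ∀ χ, χ ∈ M ↔ χ ≠ 1 ∧ 0 < multW φ hφ hK ρ χ := fun χ => by simp [hMdef]
  have hMs : M ⊆ (fibre (iW φ) 1)ᶜ := fun χ hχ => Finset.mem_compl.2 fun hc => by
    have := hs0 χ ((memM χ).1 hχ).1 (mem_fibre.1 hc)
    have := ((memM χ).1 hχ).2
    omega
  have hsplit : bothFix φ hφ hK ρ + ∑ χ ∈ (fibre (iW φ) 1)ᶜ, multW φ hφ hK ρ χ =
      bothFix φ hφ hK ρ + (q ^ 4 - q ^ 3) := by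
    rw [← sum_multW_s φ hφ hK ρ, Finset.sum_add_sum_compl, sum_multW, hD, sum_multW_s]
  have hsum := Nat.add_left_cancel hsplit
  have hMcard : M.card ≤ q ^ 4 - q ^ 3 := by
    rw [← hsum]
    refine le_trans ?_ (Finset.sum_le_sum_of_subset hMs)
    simpa using Finset.card_nsmul_le_sum M (multW φ hφ hK ρ) 1 (fun ξ hξ => ((memM ξ).1 hξ).2)
  have hpos : 0 < q ^ 4 - q ^ 3 := Nat.sub_pos_of_lt (Nat.pow_lt_pow_right (by omega) (by norm_num))
  obtain ⟨χ₀, hχ₀⟩ : M.Nonempty := by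
    by_contra he
    rw [← hsum] at hpos
    refine hpos.ne' (Finset.sum_eq_zero fun χ hχ => ?_)
    by_contra hm
    exact he ⟨χ, (memM χ).2 ⟨fun e => Finset.mem_compl.1 hχ (mem_fibre.2 (by rw [e]; rfl)), Nat.pos_of_ne_zero hm⟩⟩
  have closed : ∀ T : CoV φ →+ CoV φ, Function.Injective T →
      (∀ χ, multW φ hφ hK ρ (χ.compAddMonoidHom T) = multW φ hφ hK ρ χ) →
      ∀ χ ∈ M, χ.compAddMonoidHom T ∈ M := fun T hT hm χ hχ => by
    rw [memM] at hχ ⊢
    rw [hm]
    exact ⟨comp_ne_one (Finite.injective_iff_surjective.1 hT) hχ.1, hχ.2⟩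
  have htop : ∀ χ ∈ M, χ.compAddMonoidHom (iT φ) ≠ 1 := by
    intro χ hχ ht
    have h1 := closed (levN φ) (levN_inj φ) (multW_levN φ hφ hK ρ) χ hχ
    have h2 := hs0 _ ((memM _).1 h1).1 (DFunLike.ext _ _ fun s => ?_)
    · have := ((memM _).1 h1).2; omega
    · have e : levN φ (iW φ s) = iT φ (-s) := by simp [levN, iW, iT]
      rw [AddChar.compAddMonoidHom_apply, AddChar.compAddMonoidHom_apply, e,
        ← AddChar.compAddMonoidHom_apply, ht]
      rfl
  set M0 := M.filter (fun χ => χ.compAddMonoidHom (iM2 φ) = 1) with hM0def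
  have eT : ∀ v s, levU φ hφ hK hq v (iT φ s) = iT φ s := fun v s => by
    simp [levU, iT]
  have eM2 : ∀ v t, levU φ hφ hK hq v (iM2 φ t) = iM2 φ t + iT φ (trF φ hφ hK hq (v * t)) := fun v t => by
    simp [levU, iT, iM2]
  have prim : ∀ χ ∈ M, (lamK φ hφ hK hq (χ.compAddMonoidHom (iT φ))).IsPrimitive := fun χ hχ =>
    AddChar.IsPrimitive.of_ne_one (lamK_ne φ hφ hK hq (htop χ hχ))
  have hM0 : M0.card ≤ q - 1 := by
    have h1 : (M0 ×ˢ (Finset.univ : Finset K)).card ≤ M.card := by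
      refine Finset.card_le_card_of_injOn (fun p => p.1.compAddMonoidHom (levU φ hφ hK hq p.2)) ?_ ?_
      · intro p hp
        exact closed _ (levU_inj φ hφ hK hq _) (multW_levU φ hφ hK hq ρ _) _
          (Finset.mem_filter.1 (Finset.mem_product.1 hp).1).1
      · rintro ⟨χ, v⟩ hp ⟨χ', v'⟩ hp' h
        obtain ⟨hc, hc2⟩ := Finset.mem_filter.1 (Finset.mem_product.1 hp).1
        obtain ⟨-, hc2'⟩ := Finset.mem_filter.1 (Finset.mem_product.1 hp').1
        simp only at h hc hc2 hc2'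
        have hB : χ.compAddMonoidHom (iT φ) = χ'.compAddMonoidHom (iT φ) := DFunLike.ext _ _ fun s => by
          have := DFunLike.congr_fun h (iT φ s)
          simpa [eT] using this
        have hv : v = v' := by
          refine AddChar.to_mulShift_inj_of_isPrimitive (prim χ hc) (DFunLike.ext _ _ fun t => ?_)
          have := DFunLike.congr_fun h (iM2 φ t)
          simp only [AddChar.compAddMonoidHom_apply, eM2, AddChar.map_add_eq_mul] at this
          rw [← AddChar.compAddMonoidHom_apply χ, ← AddChar.compAddMonoidHom_apply χ',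
            ← AddChar.compAddMonoidHom_apply χ, ← AddChar.compAddMonoidHom_apply χ', hc2, hc2', ← hB] at this
          simpa [AddChar.mulShift_apply, lamK] using this
        subst hv
        refine Prod.ext (DFunLike.ext _ _ fun f => ?_) rfl
        obtain ⟨g, rfl⟩ := Finite.injective_iff_surjective.1 (levU_inj φ hφ hK hq v) f
        exact DFunLike.congr_fun h g
    rw [Finset.card_product, Finset.card_univ, hK] at h1
    have h2 : M0.card * q ^ 3 ≤ (q - 1) * q ^ 3 := by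
      rw [Nat.sub_mul, one_mul, ← pow_succ']; exact le_trans h1 hMcard
    exact Nat.le_of_mul_le_mul_right h2 (pow_pos (by omega) 3)
  obtain ⟨χ₁, hχ₁⟩ : M0.Nonempty := by
    obtain ⟨w, hw⟩ := exists_mulShift_field (lamK_ne φ hφ hK hq (htop χ₀ hχ₀))
      (χ₀.compAddMonoidHom (iM2 φ))
    refine ⟨χ₀.compAddMonoidHom (levU φ hφ hK hq (-w)), Finset.mem_filter.2
      ⟨closed _ (levU_inj φ hφ hK hq _) (multW_levU φ hφ hK hq ρ _) _ hχ₀, DFunLike.ext _ _ fun t => ?_⟩⟩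
    rw [AddChar.compAddMonoidHom_apply, AddChar.compAddMonoidHom_apply, eM2, AddChar.map_add_eq_mul,
      ← AddChar.compAddMonoidHom_apply χ₀ (iM2 φ), ← hw, AddChar.mulShift_apply, lamK,
      AddChar.compAddMonoidHom_apply, AddChar.compAddMonoidHom_apply, ← AddChar.map_add_eq_mul]
    simp
  obtain ⟨h1M, h1m⟩ := Finset.mem_filter.1 hχ₁
  have hne1 := ((memM χ₁).1 h1M).1
  have heq : tw χ₁ = M0 := by
    refine Finset.eq_of_subset_of_card_le ?_ (by rw [htw χ₁ hne1]; exact hM0)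
    intro ξ hξ
    obtain ⟨k, hk, rfl⟩ := Finset.mem_image.1 hξ
    have hk0 := Finset.ne_of_mem_erase hk
    refine Finset.mem_filter.2 ⟨closed _ (scal_inj φ hk0) (multW_scal φ hφ hK ρ hk0) _ h1M, DFunLike.ext _ _ fun t => ?_⟩
    have e : scal φ k (iM2 φ t) = iM2 φ ((k : K) * t) := by simp [scal, iM2]
    rw [AddChar.compAddMonoidHom_apply, AddChar.compAddMonoidHom_apply, e,
      ← AddChar.compAddMonoidHom_apply, h1m]
    rfl
  set B := χ₁.compAddMonoidHom (iT φ) with hBdef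
  have hBne : B ≠ 1 := htop χ₁ h1M
  have hmid : χ₁.compAddMonoidHom (iM1 φ) = 1 := by
    by_contra hA
    obtain ⟨v, hv, hvne⟩ := exists_torus_ne φ hφ hK hq
    have hmem : χ₁.compAddMonoidHom (levH φ hφ hK hq v) ∈ M0 := by
      refine Finset.mem_filter.2 ⟨closed _ (levH_inj φ hφ hK hq hv) (multW_levH φ hφ hK hq ρ hv) _ h1M,
        DFunLike.ext _ _ fun t => ?_⟩
      have e : levH φ hφ hK hq v (iM2 φ t) = iM2 φ (φ v * φ (φ v) * v⁻¹ * t) := by
        simp [levH, iM2]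
      rw [AddChar.compAddMonoidHom_apply, AddChar.compAddMonoidHom_apply, e,
        ← AddChar.compAddMonoidHom_apply, h1m]
      rfl
    rw [← heq] at hmem
    obtain ⟨k, -, hk⟩ := Finset.mem_image.1 hmem
    have hkN : k = nF φ hφ hK hq v := by
      refine AddChar.to_mulShift_inj_of_isPrimitive (AddChar.IsPrimitive.of_ne_one hBne) (DFunLike.ext _ _ fun s => ?_)
      have := DFunLike.congr_fun hk (iT φ s)
      simpa [AddChar.mulShift_apply, hBdef, levH, scal, iT] using this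
    refine hvne (AddChar.to_mulShift_inj_of_isPrimitive (AddChar.IsPrimitive.of_ne_one hA) (DFunLike.ext _ _ fun t => ?_))
    have := DFunLike.congr_fun hk (iM1 φ t)
    rw [hkN] at this
    simpa [AddChar.mulShift_apply, levH, scal, iM1, nF, Prod.zero_eq_mk] using this.symm
  obtain ⟨c, hc⟩ := exists_mulShift_field hBne (χ₁.compAddMonoidHom (iW φ))
  obtain ⟨v, hv⟩ := exists_nm3_eq φ hφ hK hq (-c)
  have hNv : nF φ hφ hK hq v = -c := Subtype.ext hv
  have h2 := closed _ (levU_inj φ hφ hK hq v) (multW_levU φ hφ hK hq ρ v) _ h1M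
  have h3 := hs0 _ ((memM _).1 h2).1 (DFunLike.ext _ _ fun s => ?_)
  · have := ((memM _).1 h2).2; omega
  · rw [AddChar.compAddMonoidHom_apply, AddChar.compAddMonoidHom_apply, char_split φ χ₁,
      ← AddChar.compAddMonoidHom_apply χ₁, ← AddChar.compAddMonoidHom_apply χ₁,
      ← AddChar.compAddMonoidHom_apply χ₁, ← AddChar.compAddMonoidHom_apply χ₁, hmid, h1m, ← hc, ← hBdef]
    simp [levU, iW, hNv, AddChar.mulShift_apply, ← AddChar.map_add_eq_mul]

end

end Cfsg.Agent.Lib.MinDegChev
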