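import Cfsg.Agent.Lib.MinDegChev.TriD4Quot

/-!
The relations in the Heisenberg parabolic of `³D₄(q)` used by the degree bound.
-/

set_option autoImplicit false
set_option maxRecDepth 4000
set_option maxHeartbeats 400000

namespace Cfsg.Agent.Lib.MinDegChev

open Cfsg.Lie Cfsg.Agent.Lib Cfsg.Agent.Lib.Chev

local notation "X" => Cfsg.Agent.Lib.Chev.Checked.xg D4.checked
local notation "H" => Cfsg.Agent.Lib.Chev.Checked.hg D4.checked
local notation "N₀" => Cfsg.Agent.Lib.Chev.Checked.ng D4.checked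

variable {K : Type*} [Field K]

/-- coordinates of the radical modulo its centre, twisted version -/
abbrev V4 (K : Type*) : Type _ := K × K × K × K

/-- the element with given coordinates -/
noncomputable def xV (φ : K ≃+* K) (f : V4 K) : GL chevD4.Idx K :=
  X 14 f.1 * aG φ f.2.1 * bG φ f.2.2.1 * X 22 f.2.2.2

/-- embedding of the twisted coordinates -/
def iota (φ : K ≃+* K) (f : V4 K) : V8 K :=
  (f.1, -φ (φ f.2.1), -φ f.2.1, f.2.2.1, f.2.1, -φ f.2.2.1, -φ (φ f.2.2.1), f.2.2.2)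

theorem iota_add (φ : K ≃+* K) (f g : V4 K) : iota φ (f + g) = iota φ f + iota φ g := by
  simp only [iota, Prod.fst_add, Prod.snd_add, map_add, Prod.mk_add_mk, neg_add]

/-- conjugation by the Levi root element -/
def TU (φ : K ≃+* K) (v : K) (f : V4 K) : V4 K :=
  (f.1, f.2.1 + v * f.1,
    f.2.2.1 + (φ v * φ (φ f.2.1) + φ (φ v) * φ f.2.1) + φ v * φ (φ v) * f.1,
    f.2.2.2 + tr3 φ (v * f.2.2.1) + tr3 φ (φ v * φ (φ v) * f.2.1) + nm3 φ v * f.1)

theorem radMem {r : ℕ} (h : r ∈ 14 :: 15 :: 16 :: 17 :: 19 :: 20 :: 21 :: [22]) : r ∈ radRoots := h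

/-- elements congruent modulo the highest root group -/
def Cong (g h : GL chevD4.Idx K) : Prop := ∃ c : K, g = h * X 23 c

theorem cong_of_mk {g h : ↥(C23 K)}
    (e : QuotientGroup.mk' (z23 K).range g = QuotientGroup.mk' (z23 K).range h) :
    Cong (g : GL chevD4.Idx K) h := by
  obtain ⟨w, ⟨c, rfl⟩, hw⟩ := (QuotientGroup.mk'_eq_mk' _).1 e.symm
  exact ⟨c.toAdd, by rw [← hw]; rfl⟩

theorem xV_mem (φ : K ≃+* K) (f : V4 K) : xV φ f ∈ C23 K := by
  have m := fun r (h : r ∈ radRoots) (t : K) => mem_C23 K (rad_mem h).1 (rad_mem h).2 t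
  refine mul_mem (mul_mem (mul_mem (m 14 (radMem (by simp)) _)
    (mul_mem (mul_mem (m 19 (radMem (by simp)) _) (m 16 (radMem (by simp)) _)) (m 15 (radMem (by simp)) _)))
    (mul_mem (mul_mem (m 17 (radMem (by simp)) _) (m 20 (radMem (by simp)) _)) (m 21 (radMem (by simp)) _)))
    (m 22 (radMem (by simp)) _)

theorem uG_mem (φ : K ≃+* K) (v : K) : uG φ v ∈ C23 K :=
  mul_mem (mul_mem (mem_C23 K (by simp) (by norm_num) _) (mem_C23 K (by simp) (by norm_num) _))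
    (mem_C23 K (by simp) (by norm_num) _)

theorem mk_xV (φ : K ≃+* K) (f : V4 K) :
    QuotientGroup.mk' (z23 K).range ⟨xV φ f, xV_mem φ f⟩ = psi (iota φ f) := by
  have m := fun r (h : r ∈ radRoots) (t : K) => mem_C23 K (rad_mem h).1 (rad_mem h).2 t
  have e : (⟨xV φ f, xV_mem φ f⟩ : ↥(C23 K)) =
      ⟨_, m 14 (radMem (by simp)) f.1⟩ *
        (⟨_, m 19 (radMem (by simp)) f.2.1⟩ * ⟨_, m 16 (radMem (by simp)) (-φ f.2.1)⟩ *
          ⟨_, m 15 (radMem (by simp)) (-φ (φ f.2.1))⟩) *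
        (⟨_, m 17 (radMem (by simp)) f.2.2.1⟩ * ⟨_, m 20 (radMem (by simp)) (-φ f.2.2.1)⟩ *
          ⟨_, m 21 (radMem (by simp)) (-φ (φ f.2.2.1))⟩) *
        ⟨_, m 22 (radMem (by simp)) f.2.2.2⟩ := rfl
  rw [e]
  simp only [map_mul]
  have s14 : ∀ t : K, y K 14 (rad_mem (radMem (by simp))) t = psi (t, 0, 0, 0, 0, 0, 0, 0) := fun t => by
    simp [psi, y_zero]
  have s15 : ∀ t : K, y K 15 (rad_mem (radMem (by simp))) t = psi (0, t, 0, 0, 0, 0, 0, 0) := fun t => by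
    simp [psi, y_zero]
  have s16 : ∀ t : K, y K 16 (rad_mem (radMem (by simp))) t = psi (0, 0, t, 0, 0, 0, 0, 0) := fun t => by
    simp [psi, y_zero]
  have s17 : ∀ t : K, y K 17 (rad_mem (radMem (by simp))) t = psi (0, 0, 0, t, 0, 0, 0, 0) := fun t => by
    simp [psi, y_zero]
  have s19 : ∀ t : K, y K 19 (rad_mem (radMem (by simp))) t = psi (0, 0, 0, 0, t, 0, 0, 0) := fun t => by
    simp [psi, y_zero]
  have s20 : ∀ t : K, y K 20 (rad_mem (radMem (by simp))) t = psi (0, 0, 0, 0, 0, t, 0, 0) := fun t => by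
    simp [psi, y_zero]
  have s21 : ∀ t : K, y K 21 (rad_mem (radMem (by simp))) t = psi (0, 0, 0, 0, 0, 0, t, 0) := fun t => by
    simp [psi, y_zero]
  have s22 : ∀ t : K, y K 22 (rad_mem (radMem (by simp))) t = psi (0, 0, 0, 0, 0, 0, 0, t) := fun t => by
    simp [psi, y_zero]
  show y K 14 (rad_mem (radMem (by simp))) _ *
    (y K 19 (rad_mem (radMem (by simp))) _ * y K 16 (rad_mem (radMem (by simp))) _ *
      y K 15 (rad_mem (radMem (by simp))) _) *
    (y K 17 (rad_mem (radMem (by simp))) _ * y K 20 (rad_mem (radMem (by simp))) _ *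
      y K 21 (rad_mem (radMem (by simp))) _) * y K 22 (rad_mem (radMem (by simp))) _ = _
  rw [s14, s15, s16, s17, s19, s20, s21, s22]
  simp only [← psi_add]
  simp [iota]

theorem xV_add (φ : K ≃+* K) (f g : V4 K) : Cong (xV φ f * xV φ g) (xV φ (f + g)) := by
  refine cong_of_mk (g := ⟨_, xV_mem φ f⟩ * ⟨_, xV_mem φ g⟩) (h := ⟨_, xV_mem φ (f + g)⟩) ?_
  rw [map_mul, mk_xV, mk_xV, mk_xV, iota_add, psi_add]

theorem mk_xV_mul (φ : K ≃+* K) {g : ↥(C23 K)} {f f' : V4 K}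
    (h : QuotientGroup.mk' (z23 K).range g = psi (iota φ f)) :
    QuotientGroup.mk' (z23 K).range (g * ⟨xV φ f', xV_mem φ f'⟩) = psi (iota φ (f + f')) := by
  rw [map_mul, h, mk_xV, iota_add, psi_add]

theorem xV_mul4 (φ : K ≃+* K) (a b c d : V4 K) :
    Cong (xV φ a * xV φ b * xV φ c * xV φ d) (xV φ (a + b + c + d)) :=
  cong_of_mk (g := ⟨xV φ a, xV_mem φ a⟩ * ⟨xV φ b, xV_mem φ b⟩ * ⟨xV φ c, xV_mem φ c⟩ * ⟨xV φ d, xV_mem φ d⟩)
    (h := ⟨xV φ (a + b + c + d), xV_mem φ _⟩)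
    ((mk_xV_mul φ (mk_xV_mul φ (mk_xV_mul φ (mk_xV φ a)))).trans (mk_xV φ _).symm)

theorem uG_conj (φ : K ≃+* K) (h3 : ∀ t, φ (φ (φ t)) = t) (v : K) (f : V4 K)
    (hs : φ f.1 = f.1) :
    Cong ((uG φ v)⁻¹ * xV φ f * uG φ v) (xV φ (TU φ v f)) := by
  refine cong_of_mk (g := (⟨_, uG_mem φ v⟩ : ↥(C23 K))⁻¹ * ⟨_, xV_mem φ f⟩ * ⟨_, uG_mem φ v⟩)
    (h := ⟨_, xV_mem φ (TU φ v f)⟩) ?_
  rw [map_mul, map_mul, map_inv, mk_xV, mk_xV]
  have e : (⟨uG φ v, uG_mem φ v⟩ : ↥(C23 K)) = ⟨_, mem_C23 K (r := 18) (by simp) (by norm_num) v⟩ *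
      ⟨_, mem_C23 K (r := 13) (by simp) (by norm_num) (φ v)⟩ *
      ⟨_, mem_C23 K (r := 12) (by simp) (by norm_num) (φ (φ v))⟩ := rfl
  rw [e, map_mul, map_mul]
  show (y K 18 ⟨by simp, by norm_num⟩ v * y K 13 ⟨by simp, by norm_num⟩ (φ v) *
    y K 12 ⟨by simp, by norm_num⟩ (φ (φ v)))⁻¹ * psi (iota φ f) *
    (y K 18 ⟨by simp, by norm_num⟩ v * y K 13 ⟨by simp, by norm_num⟩ (φ v) *
      y K 12 ⟨by simp, by norm_num⟩ (φ (φ v))) = _
  rw [show ∀ a b c p : CQ K, (a * b * c)⁻¹ * p * (a * b * c) = c⁻¹ * (b⁻¹ * (a⁻¹ * p * a) * b) * c from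
    fun a b c p => by group, psi_conj18, psi_conj13, psi_conj12]
  congr 1
  obtain ⟨s, t, t', s'⟩ := f
  replace hs : φ s = s := hs
  simp only [iota, TU, T18, T13, T12, tr3, nm3, map_add, map_mul, map_neg, h3, hs, Prod.mk.injEq]
  refine ⟨trivial, ?_, ?_, ?_, ?_, ?_, ?_, ?_⟩ <;> (first | rfl | trivial | ring)

theorem aG_add (φ : K ≃+* K) (t t' : K) : aG φ t * aG φ t' = aG φ (t + t') := by
  have c : ∀ r s a b, (r, s) ∈ [(19, 16), (19, 15), (16, 15)] → r < 24 → s < 24 →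
      Commute (X r a : GL chevD4.Idx K) (X s b) := fun r s a b h hr hs => comm_pair r s (by
        simp only [List.mem_cons, List.not_mem_nil, or_false] at h ⊢; tauto) hr hs a b
  simp only [aG]
  have h1 : Commute (X 19 t * X 16 (-φ t) : GL chevD4.Idx K) (X 15 (-φ (φ t))) :=
    Commute.mul_left (c 19 15 _ _ (by simp) (by norm_num) (by norm_num))
      (c 16 15 _ _ (by simp) (by norm_num) (by norm_num))
  have h2 : Commute (X 15 (-φ (φ t)) : GL chevD4.Idx K) (X 19 t' * X 16 (-φ t')) :=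
    Commute.mul_right (c 19 15 _ _ (by simp) (by norm_num) (by norm_num)).symm
      (c 16 15 _ _ (by simp) (by norm_num) (by norm_num)).symm
  rw [h2.mul_mul_mul_comm, (c 19 16 t' (-φ t) (by simp) (by norm_num) (by norm_num)).symm.mul_mul_mul_comm,
    D4.checked.xg_add (by norm_num [n24]), D4.checked.xg_add (by norm_num [n24]),
    D4.checked.xg_add (by norm_num [n24]), map_add, map_add, neg_add, neg_add]

theorem top_comm_aG (φ : K ≃+* K) (c t : K) : Commute (X 23 c) (aG φ t) := by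
  have h := fun r (hr : r ∈ radRoots) (a : K) => (comm_top r (rad_mem hr).1 (rad_mem hr).2 a c).symm
  exact ((h 19 (radMem (by simp)) _).mul_right (h 16 (radMem (by simp)) _)).mul_right (h 15 (radMem (by simp)) _)

theorem top_comm_bot (c s : K) : Commute (X 23 c : GL chevD4.Idx K) (X 14 s) :=
  (comm_top 14 (rad_mem (radMem (by simp))).1 (by norm_num) s c).symm

theorem bot_comm_aG (φ : K ≃+* K) (s t : K) : Commute (X 14 s) (aG φ t) :=
  ((comm_pair 14 19 (by simp) (by norm_num) (by norm_num) s _).mul_right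
    (comm_pair 14 16 (by simp) (by norm_num) (by norm_num) s _)).mul_right
    (comm_pair 14 15 (by simp) (by norm_num) (by norm_num) s _)


theorem heis_conj {G : Type*} [Group G] {A B C P Q R x y z : G} (hP : A⁻¹ * P * A = P * x)
    (hQ : B⁻¹ * Q * B = Q * y) (hR : C⁻¹ * R * C = R * z) (aQ : Commute A Q) (aR : Commute A R)
    (bP : Commute B P) (bR : Commute B R) (cP : Commute C P) (cQ : Commute C Q)
    (bx : Commute B x) (cx : Commute C x) (cy : Commute C y) (Qx : Commute Q x) (Rx : Commute R x)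
    (Ry : Commute R y) : (A * B * C)⁻¹ * (P * Q * R) * (A * B * C) = P * Q * R * (x * y * z) := by
  have fix : ∀ {g h : G}, Commute g h → g⁻¹ * h * g = h := fun h => by
    rw [h.inv_left.eq, mul_assoc, inv_mul_cancel, mul_one]
  calc (A * B * C)⁻¹ * (P * Q * R) * (A * B * C)
      = C⁻¹ * (B⁻¹ * ((A⁻¹ * P * A) * (A⁻¹ * Q * A) * (A⁻¹ * R * A)) * B) * C := by group
    _ = C⁻¹ * ((B⁻¹ * P * B) * (B⁻¹ * x * B) * (B⁻¹ * Q * B) * (B⁻¹ * R * B)) * C := by
        rw [hP, fix aQ, fix aR]; group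
    _ = C⁻¹ * (P * x * (Q * y) * R) * C := by rw [fix bP, fix bx, hQ, fix bR]
    _ = (C⁻¹ * P * C) * (C⁻¹ * x * C) * (C⁻¹ * Q * C) * (C⁻¹ * y * C) * (C⁻¹ * R * C) := by group
    _ = P * x * Q * y * (R * z) := by rw [fix cP, fix cx, fix cQ, fix cy, hR]
    _ = P * (Q * (x * (y * R))) * z := by
        rw [show P * x * Q * y * (R * z) = P * ((x * Q) * (y * R)) * z by group, ← Qx.eq]; group
    _ = P * (Q * ((x * R) * y)) * z := by rw [← Ry.eq]; group
    _ = _ := by rw [← Rx.eq]; group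

/-- Conjugation of the abelian subgroup by `x_22(s') b(t')`. -/
theorem yB_conj (φ : K ≃+* K) (c s t s' t' : K) :
    (bG φ t')⁻¹ * ((X 22 s')⁻¹ * (X 23 c * X 14 s * aG φ t) * X 22 s') * bG φ t' =
      X 23 (c + s * s' - tr3 φ (t * t')) * X 14 s * aG φ t := by
  have e1 : (X 22 s')⁻¹ * X 14 s * X 22 s' = (X 14 s * X 23 (s' * s) : GL chevD4.Idx K) := by
    rw [D4.checked.xg_inv, rel_pair 22 14 23 (-1) (by norm_num) (by norm_num) (by simp) s' s]
    simp
  have hz : ∀ (r : ℕ), r ∈ radRoots → ∀ a b : K, Commute (X 23 b : GL chevD4.Idx K) (X r a) := fun r hr a b =>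
    (comm_top r (rad_mem hr).1 (rad_mem hr).2 a b).symm
  have e2 : (aG φ t)⁻¹ * bG φ t' * aG φ t = bG φ t' * X 23 (tr3 φ (t * t')) := by
    have k : ∀ (r s : ℕ) (a b : K), (r, s) ∈ [(17, 20), (17, 21), (20, 21), (19, 20), (19, 21), (16, 17),
        (16, 21), (15, 17), (15, 20)] → r < 24 → s < 24 →
        (X r (-a) * X s b * X r a : GL chevD4.Idx K) = X s b := fun r s a b h hr hs => by
      have := comm_pair (K := K) r s (by
        simp only [List.mem_cons, List.not_mem_nil, or_false] at h ⊢; tauto) hr hs a b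
      rw [mul_assoc, ← this.eq, ← mul_assoc, D4.checked.xg_add (by simpa [n24] using hr), neg_add_cancel,
        D4.checked.xg_zero, one_mul]
    have kc : ∀ (r s : ℕ) (a b : K), (r, s) ∈ [(19, 20), (19, 21), (16, 17), (16, 21), (15, 17), (15, 20)] →
        r < 24 → s < 24 → Commute (X r a : GL chevD4.Idx K) (X s b) := fun r s a b h hr hs =>
      comm_pair r s (by simp only [List.mem_cons, List.not_mem_nil, or_false] at h ⊢; tauto) hr hs a b
    rw [aG, bG, heis_conj (x := X 23 (t * t')) (y := X 23 (φ t * φ t')) (z := X 23 (φ (φ t) * φ (φ t')))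
      ?_ ?_ ?_ (kc 19 20 _ _ (by simp) (by norm_num) (by norm_num))
      (kc 19 21 _ _ (by simp) (by norm_num) (by norm_num)) (kc 16 17 _ _ (by simp) (by norm_num) (by norm_num))
      (kc 16 21 _ _ (by simp) (by norm_num) (by norm_num)) (kc 15 17 _ _ (by simp) (by norm_num) (by norm_num))
      (kc 15 20 _ _ (by simp) (by norm_num) (by norm_num)) (hz 16 (radMem (by simp)) _ _).symm
      (hz 15 (radMem (by simp)) _ _).symm (hz 15 (radMem (by simp)) _ _).symm
      (hz 20 (radMem (by simp)) _ _).symm (hz 21 (radMem (by simp)) _ _).symm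
      (hz 21 (radMem (by simp)) _ _).symm]
    · rw [D4.checked.xg_add (by norm_num [n24]), D4.checked.xg_add (by norm_num [n24])]
      simp [tr3, map_mul]
    · rw [D4.checked.xg_inv, rel_pair 19 17 23 (-1) (by norm_num) (by norm_num) (by simp) t t']
      simp
    · rw [D4.checked.xg_inv, rel_pair 16 20 23 (-1) (by norm_num) (by norm_num) (by simp) (-φ t) (-φ t')]
      simp
    · rw [D4.checked.xg_inv, rel_pair 15 21 23 (-1) (by norm_num) (by norm_num) (by simp) (-φ (φ t)) (-φ (φ t'))]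
      simp
  have e3 : (bG φ t')⁻¹ * aG φ t * bG φ t' = X 23 (-tr3 φ (t * t')) * aG φ t := by
    have h' : bG φ t' * aG φ t = aG φ t * (bG φ t' * X 23 (tr3 φ (t * t'))) := by rw [← e2]; group
    have hzb : Commute (X 23 (tr3 φ (t * t'))) (bG φ t') :=
      ((hz 17 (radMem (by simp)) _ _).mul_right (hz 20 (radMem (by simp)) _ _)).mul_right
        (hz 21 (radMem (by simp)) _ _)
    rw [← hzb.eq, ← mul_assoc, ← (top_comm_aG φ _ t).eq] at h'
    rw [← D4.checked.xg_inv]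
    calc (bG φ t')⁻¹ * aG φ t * bG φ t'
        = (bG φ t')⁻¹ * ((X 23 (tr3 φ (t * t')))⁻¹ * (X 23 (tr3 φ (t * t')) * aG φ t * bG φ t')) := by group
      _ = (bG φ t')⁻¹ * (X 23 (tr3 φ (t * t')))⁻¹ * (bG φ t' * aG φ t) := by rw [h']; group
      _ = _ := by
          rw [show (bG φ t')⁻¹ * (X 23 (tr3 φ (t * t')))⁻¹ = (X 23 (tr3 φ (t * t')))⁻¹ * (bG φ t')⁻¹ from
            (hzb.inv_inv.eq).symm]
          group
  have ha : Commute (X 22 s') (aG φ t) :=
    ((comm_pair 22 19 (by simp) (by norm_num) (by norm_num) s' _).mul_right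
      (comm_pair 22 16 (by simp) (by norm_num) (by norm_num) s' _)).mul_right
      (comm_pair 22 15 (by simp) (by norm_num) (by norm_num) s' _)
  have hb : Commute (X 14 s) (bG φ t') :=
    ((comm_pair 14 17 (by simp) (by norm_num) (by norm_num) s _).mul_right
      (comm_pair 14 20 (by simp) (by norm_num) (by norm_num) s _)).mul_right
      (comm_pair 14 21 (by simp) (by norm_num) (by norm_num) s _)
  have hbz : ∀ b : K, Commute (X 23 b) (bG φ t') := fun b =>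
    ((hz 17 (radMem (by simp)) _ _).mul_right (hz 20 (radMem (by simp)) _ _)).mul_right (hz 21 (radMem (by simp)) _ _)
  have h1 : (X 22 s')⁻¹ * (X 23 c * X 14 s * aG φ t) * X 22 s' = X 23 (c + s' * s) * X 14 s * aG φ t := by
    calc (X 22 s')⁻¹ * (X 23 c * X 14 s * aG φ t) * X 22 s'
        = ((X 22 s')⁻¹ * X 23 c * X 22 s') * ((X 22 s')⁻¹ * X 14 s * X 22 s') *
            ((X 22 s')⁻¹ * aG φ t * X 22 s') := by group
      _ = X 23 c * (X 14 s * X 23 (s' * s)) * aG φ t := by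
          rw [e1, ha.inv_left.eq, mul_assoc (aG φ t), inv_mul_cancel, mul_one,
            (hz 22 (radMem (by simp)) s' c).symm.inv_left.eq, mul_assoc (X 23 c), inv_mul_cancel, mul_one]
      _ = _ := by
          rw [(top_comm_bot _ s).symm.eq, ← mul_assoc (X 23 c), D4.checked.xg_add (by norm_num [n24])]
  rw [h1]
  calc (bG φ t')⁻¹ * (X 23 (c + s' * s) * X 14 s * aG φ t) * bG φ t'
      = ((bG φ t')⁻¹ * X 23 (c + s' * s) * bG φ t') * ((bG φ t')⁻¹ * X 14 s * bG φ t') *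
          ((bG φ t')⁻¹ * aG φ t * bG φ t') := by group
    _ = X 23 (c + s' * s) * X 14 s * (X 23 (-tr3 φ (t * t')) * aG φ t) := by
        rw [e3, (hbz _).symm.inv_left.eq, mul_assoc (X 23 (c + s' * s)), inv_mul_cancel, mul_one,
          hb.symm.inv_left.eq, mul_assoc (X 14 s), inv_mul_cancel, mul_one]
    _ = _ := by
        rw [← mul_assoc (X 23 (c + s' * s) * X 14 s), mul_assoc (X 23 (c + s' * s)) (X 14 s),
          ← (top_comm_bot _ s).eq, ← mul_assoc (X 23 (c + s' * s)), D4.checked.xg_add (by norm_num [n24])]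
        congr 3
        ring

theorem pair_vals :
    (pair chevD4 14 14 = 2 ∧ pair chevD4 14 19 = 1 ∧ pair chevD4 14 16 = 1 ∧ pair chevD4 14 15 = 1 ∧
      pair chevD4 14 23 = 1) ∧
    (∀ r ∈ radRoots, pair chevD4 23 r = 1) ∧ pair chevD4 23 23 = 2 ∧
    (pair chevD4 18 14 = -1 ∧ pair chevD4 13 14 = -1 ∧ pair chevD4 12 14 = -1) ∧
    (pair chevD4 18 19 = 1 ∧ pair chevD4 13 19 = -1 ∧ pair chevD4 12 19 = -1) ∧
    (pair chevD4 18 16 = -1 ∧ pair chevD4 13 16 = 1 ∧ pair chevD4 12 16 = -1) ∧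
    (pair chevD4 18 15 = -1 ∧ pair chevD4 13 15 = -1 ∧ pair chevD4 12 15 = 1) ∧
    (pair chevD4 18 17 = -1 ∧ pair chevD4 13 17 = 1 ∧ pair chevD4 12 17 = 1) ∧
    (pair chevD4 18 20 = 1 ∧ pair chevD4 13 20 = -1 ∧ pair chevD4 12 20 = 1) ∧
    (pair chevD4 18 21 = 1 ∧ pair chevD4 13 21 = 1 ∧ pair chevD4 12 21 = -1) ∧
    (pair chevD4 18 22 = 1 ∧ pair chevD4 13 22 = 1 ∧ pair chevD4 12 22 = 1) ∧
    (pair chevD4 18 23 = 0 ∧ pair chevD4 13 23 = 0 ∧ pair chevD4 12 23 = 0) := by decide +kernel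

theorem conj_mul3 {G : Type*} [Group G] (h a b c : G) :
    h * (a * b * c) * h⁻¹ = (h * a * h⁻¹) * (h * b * h⁻¹) * (h * c * h⁻¹) := by group

theorem conj_mul4 {G : Type*} [Group G] (h a b c d : G) :
    h * (a * b * c * d) * h⁻¹ = (h * a * h⁻¹) * (h * b * h⁻¹) * (h * c * h⁻¹) * (h * d * h⁻¹) := by group

theorem h14_conj (φ : K ≃+* K) {k : K} (hk : k ≠ 0) (hc : φ k = k) (c s t : K) :
    H 14 k * (X 23 c * X 14 s * aG φ t) * (H 14 k)⁻¹ = X 23 (k * c) * X 14 (k * k * s) * aG φ (k * t) := by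
  obtain ⟨⟨p1, p2, p3, p4, p5⟩, -⟩ := pair_vals
  rw [conj_mul3, aG, conj_mul3 (H 14 k) (X 19 t)]
  simp only [D4.checked.hg_xg (q := 14) (by norm_num [n24]) (r := 23) (by norm_num [n24]) hk,
    D4.checked.hg_xg (q := 14) (by norm_num [n24]) (r := 14) (by norm_num [n24]) hk,
    D4.checked.hg_xg (q := 14) (by norm_num [n24]) (r := 19) (by norm_num [n24]) hk,
    D4.checked.hg_xg (q := 14) (by norm_num [n24]) (r := 16) (by norm_num [n24]) hk,
    D4.checked.hg_xg (q := 14) (by norm_num [n24]) (r := 15) (by norm_num [n24]) hk, p1, p2, p3, p4, p5]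
  simp [aG, zpow_two, pow_two, hc]

theorem h23_conj (φ : K ≃+* K) {k : K} (hk : k ≠ 0) (hc : φ k = k) (f : V4 K) :
    H 23 k * xV φ f * (H 23 k)⁻¹ = xV φ (k * f.1, k * f.2.1, k * f.2.2.1, k * f.2.2.2) := by
  obtain ⟨-, p, -⟩ := pair_vals
  have h : ∀ r ∈ radRoots, ∀ a : K, H 23 k * X r a * (H 23 k)⁻¹ = X r (k * a) := fun r hr a => by
    rw [D4.checked.hg_xg (by norm_num [n24]) (by simpa [n24] using (rad_mem hr).2) hk, p r hr, zpow_one]
  rw [xV, conj_mul4, aG, bG, conj_mul3 (H 23 k) (X 19 f.2.1), conj_mul3 (H 23 k) (X 17 f.2.2.1)]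
  rw [h 14 (radMem (by simp)), h 19 (radMem (by simp)), h 16 (radMem (by simp)), h 15 (radMem (by simp)),
    h 17 (radMem (by simp)), h 20 (radMem (by simp)), h 21 (radMem (by simp)), h 22 (radMem (by simp))]
  simp [xV, aG, bG, hc]

theorem h23_top {k : K} (hk : k ≠ 0) (c : K) :
    H 23 k * X 23 c * (H 23 k)⁻¹ = X 23 (k * k * c) := by
  rw [D4.checked.hg_xg (by norm_num [n24]) (by norm_num [n24]) hk, pair_vals.2.2.1, zpow_two]

theorem hG_xg (φ : K ≃+* K) {v : K} (hv : v ≠ 0) {r : ℕ} (hr : r < 24) (a : K) :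
    hG φ v * X r a * (hG φ v)⁻¹ =
      X r (v ^ pair chevD4 18 r * (φ v ^ pair chevD4 13 r * (φ (φ v) ^ pair chevD4 12 r * a))) := by
  have h1 : φ v ≠ 0 := (map_ne_zero φ).2 hv
  have h2 : φ (φ v) ≠ 0 := (map_ne_zero φ).2 h1
  rw [hG, show ∀ a b c x : GL chevD4.Idx K, a * b * c * x * (a * b * c)⁻¹ =
    a * (b * (c * x * c⁻¹) * b⁻¹) * a⁻¹ from fun a b c x => by group,
    D4.checked.hg_xg (by norm_num [n24]) (by simpa [n24] using hr) h2,
    D4.checked.hg_xg (by norm_num [n24]) (by simpa [n24] using hr) h1,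
    D4.checked.hg_xg (by norm_num [n24]) (by simpa [n24] using hr) hv]

theorem hG_conj (φ : K ≃+* K) (h3 : ∀ t, φ (φ (φ t)) = t) {v : K} (hv : v ≠ 0) (f : V4 K) :
    hG φ v * xV φ f * (hG φ v)⁻¹ = xV φ ((nm3 φ v)⁻¹ * f.1, v * (φ v * φ (φ v))⁻¹ * f.2.1,
      φ v * φ (φ v) * v⁻¹ * f.2.2.1, nm3 φ v * f.2.2.2) := by
  obtain ⟨-, -, -, p14, p19, p16, p15, p17, p20, p21, p22, -⟩ := pair_vals
  rw [xV, conj_mul4, aG, bG, conj_mul3 (hG φ v) (X 19 f.2.1), conj_mul3 (hG φ v) (X 17 f.2.2.1)]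
  rw [hG_xg φ hv (by norm_num), hG_xg φ hv (by norm_num), hG_xg φ hv (by norm_num), hG_xg φ hv (by norm_num),
    hG_xg φ hv (by norm_num), hG_xg φ hv (by norm_num), hG_xg φ hv (by norm_num), hG_xg φ hv (by norm_num),
    p14.1, p14.2.1, p14.2.2, p19.1, p19.2.1, p19.2.2, p16.1, p16.2.1, p16.2.2, p15.1, p15.2.1, p15.2.2,
    p17.1, p17.2.1, p17.2.2, p20.1, p20.2.1, p20.2.2, p21.1, p21.2.1, p21.2.2, p22.1, p22.2.1, p22.2.2]
  simp only [xV, aG, bG, nm3, zpow_one, zpow_neg, map_mul, map_inv₀, h3, mul_inv_rev]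
  congr! 1
  all_goals ring_nf

theorem hG_top (φ : K ≃+* K) {v : K} (hv : v ≠ 0) (c : K) : hG φ v * X 23 c * (hG φ v)⁻¹ = X 23 c := by
  obtain ⟨-, -, -, -, -, -, -, -, -, -, -, p⟩ := pair_vals
  rw [hG_xg φ hv (by norm_num), p.1, p.2.1, p.2.2]
  simp

theorem ng_rel {i s s' : ℕ} {e : Bool} (hi : i < 4) (hs : s < 24)
    (h : (chevD4.reflectRoot i s == s') = true ∧ D4.fast.en i s = e) (a : K) :
    N₀ i * X s a * (N₀ i)⁻¹ = X s' (((sgn e : ℤ) : K) * a) := by
  rw [D4.checked.ng_xg (by simpa [rk4] using hi) (by simpa [n24] using hs), mul_inv_cancel_right, eta, h.2,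
    show chevD4.reflectRoot i s = s' by simpa using h.1]

theorem nG_xg {s s1 s2 s3 : ℕ} {e1 e2 e3 : Bool} (hs : s < 24) (h1' : s1 < 24) (h2' : s2 < 24)
    (h : ((chevD4.reflectRoot 3 s == s1) = true ∧ D4.fast.en 3 s = e1) ∧
      ((chevD4.reflectRoot 2 s1 == s2) = true ∧ D4.fast.en 2 s1 = e2) ∧
      ((chevD4.reflectRoot 0 s2 == s3) = true ∧ D4.fast.en 0 s2 = e3)) (a : K) :
    (nG : GL chevD4.Idx K) * X s a * nG⁻¹ = X s3 (((sgn e3 * sgn e2 * sgn e1 : ℤ) : K) * a) := by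
  rw [nG, show ∀ a b c x : GL chevD4.Idx K, a * b * c * x * (a * b * c)⁻¹ =
    a * (b * (c * x * c⁻¹) * b⁻¹) * a⁻¹ from fun a b c x => by group,
    ng_rel (by norm_num) hs h.1, ng_rel (by norm_num) h1' h.2.1, ng_rel (by norm_num) h2' h.2.2]
  congr 1
  push_cast
  ring

theorem aG_zero (φ : K ≃+* K) : aG φ (0 : K) = 1 := by
  simp only [aG, map_zero, neg_zero, D4.checked.xg_zero, mul_one]

theorem bG_zero (φ : K ≃+* K) : bG φ (0 : K) = 1 := by
  simp only [bG, map_zero, neg_zero, D4.checked.xg_zero, mul_one]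

theorem xV_single22 (φ : K ≃+* K) (a : K) : X 22 a = xV φ (0, 0, 0, a) := by
  simp only [xV, aG_zero, bG_zero, D4.checked.xg_zero, mul_one, one_mul]

theorem xV_single14 (φ : K ≃+* K) (a : K) : X 14 a = xV φ (a, 0, 0, 0) := by
  simp only [xV, aG_zero, bG_zero, D4.checked.xg_zero, mul_one, one_mul]

theorem xV_single19 (φ : K ≃+* K) (a : K) : aG φ a = xV φ (0, a, 0, 0) := by
  simp only [xV, bG_zero, D4.checked.xg_zero, mul_one, one_mul]

theorem xV_single17 (φ : K ≃+* K) (a : K) : bG φ a = xV φ (0, 0, a, 0) := by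
  simp only [xV, aG_zero, D4.checked.xg_zero, mul_one, one_mul]

theorem nG14 (a : K) : (nG : GL chevD4.Idx K) * X 14 a * nG⁻¹ = X 22 (-a) := by
  rw [nG_xg (s := 14) (s1 := 15) (s2 := 17) (s3 := 22) (e1 := false) (e2 := false) (e3 := true)
    (by norm_num) (by norm_num) (by norm_num) (by decide +kernel)]
  simp [sgn]

theorem nG22 (a : K) : (nG : GL chevD4.Idx K) * X 22 a * nG⁻¹ = X 14 (a) := by
  rw [nG_xg (s := 22) (s1 := 21) (s2 := 19) (s3 := 14) (e1 := true) (e2 := true) (e3 := false)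
    (by norm_num) (by norm_num) (by norm_num) (by decide +kernel)]
  simp [sgn]

theorem nG19 (a : K) : (nG : GL chevD4.Idx K) * X 19 a * nG⁻¹ = X 17 (a) := by
  rw [nG_xg (s := 19) (s1 := 20) (s2 := 22) (s3 := 17) (e1 := false) (e2 := false) (e3 := false)
    (by norm_num) (by norm_num) (by norm_num) (by decide +kernel)]
  simp [sgn]

theorem nG16 (a : K) : (nG : GL chevD4.Idx K) * X 16 a * nG⁻¹ = X 20 (a) := by
  rw [nG_xg (s := 16) (s1 := 17) (s2 := 15) (s3 := 20) (e1 := false) (e2 := true) (e3 := true)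
    (by norm_num) (by norm_num) (by norm_num) (by decide +kernel)]
  simp [sgn]

theorem nG15 (a : K) : (nG : GL chevD4.Idx K) * X 15 a * nG⁻¹ = X 21 (a) := by
  rw [nG_xg (s := 15) (s1 := 14) (s2 := 16) (s3 := 21) (e1 := true) (e2 := false) (e3 := true)
    (by norm_num) (by norm_num) (by norm_num) (by decide +kernel)]
  simp [sgn]

theorem nG17 (a : K) : (nG : GL chevD4.Idx K) * X 17 a * nG⁻¹ = X 19 (-a) := by
  rw [nG_xg (s := 17) (s1 := 16) (s2 := 14) (s3 := 19) (e1 := true) (e2 := true) (e3 := true)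
    (by norm_num) (by norm_num) (by norm_num) (by decide +kernel)]
  simp [sgn]

theorem nG20 (a : K) : (nG : GL chevD4.Idx K) * X 20 a * nG⁻¹ = X 16 (-a) := by
  rw [nG_xg (s := 20) (s1 := 19) (s2 := 21) (s3 := 16) (e1 := true) (e2 := false) (e3 := false)
    (by norm_num) (by norm_num) (by norm_num) (by decide +kernel)]
  simp [sgn]

theorem nG21 (a : K) : (nG : GL chevD4.Idx K) * X 21 a * nG⁻¹ = X 15 (-a) := by
  rw [nG_xg (s := 21) (s1 := 22) (s2 := 20) (s3 := 15) (e1 := false) (e2 := true) (e3 := false)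
    (by norm_num) (by norm_num) (by norm_num) (by decide +kernel)]
  simp [sgn]

theorem nG_aG (φ : K ≃+* K) (t : K) : nG * aG φ t * nG⁻¹ = bG φ t := by
  unfold aG bG
  rw [conj_mul3]
  simp only [nG19, nG16, nG15]

theorem nG_bG (φ : K ≃+* K) (t : K) : nG * bG φ t * nG⁻¹ = aG φ (-t) := by
  unfold aG bG
  rw [conj_mul3]
  simp only [nG17, nG20, nG21, map_neg, neg_neg]

theorem nG_conj (φ : K ≃+* K) (f : V4 K) :
    Cong (nG * xV φ f * nG⁻¹) (xV φ (f.2.2.2, -f.2.2.1, f.2.1, -f.1)) := by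
  obtain ⟨s, t, t', s'⟩ := f
  have e : nG * xV φ (s, t, t', s') * nG⁻¹ = X 22 (-s) * bG φ t * aG φ (-t') * X 14 s' := by
    unfold xV
    rw [conj_mul4]
    simp only [nG14, nG22, nG_aG, nG_bG]
  rw [e]
  simp only [xV_single22 φ, xV_single17 φ, xV_single19 φ, xV_single14 φ]
  have h := xV_mul4 φ (0, 0, 0, -s) (0, 0, t, 0) (0, -t', 0, 0) (s', 0, 0, 0)
  simp only [Prod.mk_add_mk, zero_add, add_zero] at h
  exact h

theorem nG_top (c : K) : (nG : GL chevD4.Idx K) * X 23 c * nG⁻¹ = X 23 c := by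
  rw [nG_xg (s := 23) (s1 := 23) (s2 := 23) (s3 := 23) (e1 := false) (e2 := false) (e3 := false)
    (by norm_num) (by norm_num) (by norm_num) (by decide +kernel)]
  simp [sgn]

theorem g_conj_top (c : K) : (nG * N₀ 1 : GL chevD4.Idx K) * X 23 c * (nG * N₀ 1)⁻¹ = X 14 (-c) := by
  rw [show ∀ a b x : GL chevD4.Idx K, a * b * x * (a * b)⁻¹ = a * (b * x * b⁻¹) * a⁻¹ from
    fun a b x => by group,
    ng_rel (s' := 22) (e := true) (by norm_num) (by norm_num) (by decide +kernel),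
    nG_xg (s := 22) (s1 := 21) (s2 := 19) (s3 := 14) (e1 := true) (e2 := true) (e3 := false)
      (by norm_num) (by norm_num) (by norm_num) (by decide +kernel)]
  simp [sgn]

end Cfsg.Agent.Lib.MinDegChev
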