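import Cfsg.Agent.Lib.MinDegChev.TriD4Elems
import Cfsg.Agent.Lib.MinDegChev.MultTools
import Mathlib.RingTheory.IntegralDomain

/-!
The cubic extension of the fixed field: trace, norm and characters.
-/

set_option autoImplicit false

namespace Cfsg.Agent.Lib.MinDegChev

open Cfsg.Lie Cfsg.Agent.Lib Cfsg.Agent.Lib.Chev

variable {K : Type*} [Field K] [Fintype K] {q : ℕ} (φ : K ≃+* K)

/-- the fixed field -/
abbrev Fld : Subfield K := RingHom.eqLocusField φ.toRingHom (RingHom.id K)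

omit [Fintype K] in
theorem fld_spec (c : Fld φ) : φ (c : K) = c := c.2

variable (hφ : ∀ t, φ t = t ^ q) (hK : Fintype.card K = q ^ 3) (hq : 2 ≤ q)
include hφ hK hq

theorem card_fld : Nat.card (Fld φ) = q := by
  show Nat.card {t : K // φ t = t} = q
  simp only [hφ]
  exact card_frob_fixed (by omega) hK

theorem tr3_mem (t : K) : φ (tr3 φ t) = tr3 φ t := by
  simp only [tr3, map_add, phi3 φ hφ hK]; abel

theorem nm3_mem (t : K) : φ (nm3 φ t) = nm3 φ t := by
  simp only [nm3, map_mul, phi3 φ hφ hK]; ring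

theorem exists_tr3_ne : ∃ t : K, tr3 φ t ≠ 0 := by
  by_contra hc
  push Not at hc
  have hp : (Polynomial.X ^ (q ^ 2) + Polynomial.X ^ q + Polynomial.X : Polynomial K) = 0 := by
    refine Polynomial.eq_zero_of_natDegree_lt_card_of_eval_eq_zero _ (f := (id : K → K)) Function.injective_id
      (fun t => ?_) ?_
    · have := hc t
      rw [tr3, hφ (φ t), hφ t, ← pow_mul, ← pow_two] at this
      simp only [id, Polynomial.eval_add, Polynomial.eval_pow, Polynomial.eval_X]
      rw [← this]; abel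
    · rw [hK]
      refine lt_of_le_of_lt (b := q ^ 2) ?_ ?_
      · compute_degree
        simp [show q ≤ q ^ 2 by nlinarith, show 1 ≤ q ^ 2 by nlinarith]
      · exact Nat.pow_lt_pow_right (by omega) (by norm_num)
  have h1 := congrArg (fun p => Polynomial.coeff p 1) hp
  have e1 : (1 : ℕ) ≠ q ^ 2 := by nlinarith
  have e2 : (1 : ℕ) ≠ q := by omega
  simp [Polynomial.coeff_X_pow, e1, e2] at h1

theorem exists_tr3_eq (c : Fld φ) : ∃ t : K, tr3 φ t = c := by
  obtain ⟨t, ht⟩ := exists_tr3_ne φ hφ hK hq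
  refine ⟨(c : K) * (tr3 φ t)⁻¹ * t, ?_⟩
  have h : φ ((c : K) * (tr3 φ t)⁻¹) = (c : K) * (tr3 φ t)⁻¹ := by
    rw [map_mul, map_inv₀, tr3_mem φ hφ hK hq, fld_spec]
  have : ∀ k : K, φ k = k → tr3 φ (k * t) = k * tr3 φ t := fun k hk => by
    simp only [tr3, map_mul, hk]; ring
  rw [this _ h, mul_assoc, inv_mul_cancel₀ ht, mul_one]

omit hφ hK hq in
theorem tr3_add (a b : K) : tr3 φ (a + b) = tr3 φ a + tr3 φ b := by simp only [tr3, map_add]; abel

/-- the trace as a map to the fixed field -/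
def trF : K →+ Fld φ where
  toFun t := ⟨tr3 φ t, tr3_mem φ hφ hK hq t⟩
  map_zero' := Subtype.ext (by simp [tr3])
  map_add' a b := Subtype.ext (tr3_add φ a b)

@[simp] theorem coe_trF (t : K) : (trF φ hφ hK hq t : K) = tr3 φ t := rfl

/-- the character of `K` attached to a character of the fixed field -/
def lamK (l : AddChar (Fld φ) ℂ) : AddChar K ℂ := l.compAddMonoidHom (trF φ hφ hK hq)

theorem lamK_ne {l : AddChar (Fld φ) ℂ} (hl : l ≠ 1) : lamK φ hφ hK hq l ≠ 1 := by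
  obtain ⟨c, hc⟩ := AddChar.ne_one_iff.1 hl
  obtain ⟨t, ht⟩ := exists_tr3_eq φ hφ hK hq c
  refine AddChar.ne_one_iff.2 ⟨t, ?_⟩
  rw [lamK, AddChar.compAddMonoidHom_apply, show trF φ hφ hK hq t = c from Subtype.ext ht]
  exact hc

/-- every element of the fixed field is a norm -/
theorem exists_nm3_eq (c : Fld φ) : ∃ v : K, nm3 φ v = c := by
  by_cases hc : (c : K) = 0
  · exact ⟨0, by simp [nm3, hc]⟩
  obtain ⟨g, hg⟩ := IsCyclic.exists_generator (α := Kˣ)
  obtain ⟨m, hm⟩ := Submonoid.mem_powers_iff _ _ |>.1 (mem_powers_iff_mem_zpowers.2 (hg (Units.mk0 _ hc)))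
  have ho : orderOf g = q ^ 3 - 1 := by
    rw [orderOf_eq_card_of_forall_mem_zpowers hg, Nat.card_units, Nat.card_eq_fintype_card, hK]
  have hone : (Units.mk0 _ hc : Kˣ) ^ (q - 1) = 1 := by
    have hf := fld_spec φ c
    rw [hφ, show (q : ℕ) = (q - 1) + 1 by omega, pow_succ] at hf
    refine Units.ext ?_
    rw [Units.val_pow_eq_pow_val]
    exact (mul_eq_right₀ hc).1 hf
  rw [← hm, ← pow_mul, ← orderOf_dvd_iff_pow_eq_one, ho] at hone
  have hfac : q ^ 3 - 1 = (q ^ 2 + q + 1) * (q - 1) := by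
    have h1 : 1 ≤ q ^ 3 := Nat.one_le_pow _ _ (by omega)
    zify [h1, show 1 ≤ q by omega]; ring
  rw [hfac] at hone
  obtain ⟨j, rfl⟩ := Nat.dvd_of_mul_dvd_mul_right (by omega) hone
  refine ⟨((g ^ j : Kˣ) : K), ?_⟩
  have := congrArg Units.val hm
  rw [Units.val_mk0] at this
  rw [← this, nm3, hφ (φ _), hφ, ← pow_mul, Units.val_pow_eq_pow_val, Units.val_pow_eq_pow_val,
    ← pow_succ', ← pow_add, mul_comm (q^2+q+1) j, pow_mul]
  congr 1
  ring

/-- the torus of the Levi subgroup separates the two middle triples -/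
theorem exists_torus_ne : ∃ v : K, v ≠ 0 ∧ v * (φ v * φ (φ v))⁻¹ ≠ nm3 φ v := by
  obtain ⟨g, hg⟩ := IsCyclic.exists_generator (α := Kˣ)
  have ho : orderOf g = q ^ 3 - 1 := by
    rw [orderOf_eq_card_of_forall_mem_zpowers hg, Nat.card_units, Nat.card_eq_fintype_card, hK]
  refine ⟨g, g.ne_zero, fun h => ?_⟩
  have h1 : ((g : K) ^ q * (g : K) ^ (q * q)) ^ 2 = 1 := by
    rw [nm3, hφ (φ _), hφ, ← pow_mul] at h
    have hv : (g : K) ^ q * (g : K) ^ (q * q) ≠ 0 := by simp
    field_simp at h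
    linear_combination (exp := 1) -h
  have h2 : g ^ (2 * (q * (q + 1))) = 1 := by
    refine Units.ext ?_
    rw [Units.val_pow_eq_pow_val, Units.val_one, ← h1]
    ring
  rw [← orderOf_dvd_iff_pow_eq_one, ho] at h2
  have h1' : 1 ≤ q ^ 3 := Nat.one_le_pow _ _ (by omega)
  have hcop : Nat.Coprime (q ^ 3 - 1) q := by
    refine Nat.Coprime.coprime_dvd_right (dvd_pow_self q (show 3 ≠ 0 by norm_num)) ?_
    simpa using (Nat.coprime_self_sub_left h1').2 (Nat.coprime_one_left _)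
  rw [show 2 * (q * (q + 1)) = q * (2 * (q + 1)) by ring] at h2
  have h3 := Nat.le_of_dvd (by omega) (hcop.dvd_of_dvd_mul_left h2)
  have h4 : 4 * q ≤ q ^ 3 := by nlinarith [Nat.mul_le_mul hq hq]
  omega

end Cfsg.Agent.Lib.MinDegChev
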