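import Cfsg.Agent.Lib.MinDegChev.TriD4Count

/-!
The action of the Heisenberg parabolic on the fixed space of the highest root group.
-/

set_option autoImplicit false
set_option maxRecDepth 4000

namespace Cfsg.Agent.Lib.MinDegChev

open Cfsg.Lie Cfsg.Agent.Lib Cfsg.Agent.Lib.Chev Cfsg.Agent.Lib.MinDegForms Module

local notation "X" => Cfsg.Agent.Lib.Chev.Checked.xg D4.checked
local notation "H" => Cfsg.Agent.Lib.Chev.Checked.hg D4.checked

variable {K : Type*} [Field K] [Fintype K] {q : ℕ} (φ : K ≃+* K)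

/-- coordinates of the radical modulo its centre -/
abbrev CoV : Type _ := Fld φ × K × K × Fld φ

/-- the coordinates in the ambient form -/
def jV (f : CoV φ) : V4 K := ((f.1 : K), f.2.1, f.2.2.1, (f.2.2.2 : K))

variable (hφ : ∀ t, φ t = t ^ q) (hK : Fintype.card K = q ^ 3)
variable {U : Type*} [AddCommGroup U] [Module ℂ U]
  (ρ : Representation ℂ ↥(twistedD4 K q) U) [Fintype (Fld φ)]

/-- the projection to the fixed space of the highest root group -/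
noncomputable def PC : Module.End ℂ U := proj ρ (xA φ hφ hK ∘ iC φ) 1

/-- the fixed space of the highest root group -/
noncomputable abbrev Wf : Submodule ℂ U := LinearMap.range (PC φ hφ hK ρ)

/-- the elements preserving that decomposition -/
noncomputable def NW : Subgroup ↥(twistedD4 K q) where
  carrier := {g | Commute (ρ g) (PC φ hφ hK ρ)}
  one_mem' := by simp [Commute.one_left]
  mul_mem' {a b} ha hb := by
    show Commute (ρ (a * b)) _
    rw [map_mul]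
    exact Commute.mul_left ha hb
  inv_mem' {a} ha := by
    have h : ρ a * PC φ hφ hK ρ = PC φ hφ hK ρ * ρ a := ha
    show ρ a⁻¹ * PC φ hφ hK ρ = PC φ hφ hK ρ * ρ a⁻¹
    calc ρ a⁻¹ * PC φ hφ hK ρ = ρ a⁻¹ * (PC φ hφ hK ρ * (ρ a * ρ a⁻¹)) := by
          rw [← map_mul, mul_inv_cancel, map_one, mul_one]
      _ = ρ a⁻¹ * ρ a * PC φ hφ hK ρ * ρ a⁻¹ := by
          rw [← mul_assoc (PC φ hφ hK ρ), ← h]; simp only [mul_assoc]
      _ = _ := by rw [← map_mul, inv_mul_cancel, map_one, one_mul]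

/-- the action on the fixed space -/
noncomputable def actW : ↥(NW φ hφ hK ρ) →* Module.End ℂ (Wf φ hφ hK ρ) where
  toFun g := (ρ g.1).restrict (p := Wf φ hφ hK ρ) (q := Wf φ hφ hK ρ) (by
    rintro _ ⟨v, rfl⟩
    exact ⟨ρ g.1 v, (LinearMap.congr_fun (show ρ g.1 * PC φ hφ hK ρ = _ from g.2.eq) v).symm⟩)
  map_one' := LinearMap.ext fun w => Subtype.ext (by simp)
  map_mul' a b := LinearMap.ext fun w => Subtype.ext (by simp)

/-- the action on the fixed space as units -/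
noncomputable def RW : ↥(NW φ hφ hK ρ) →* (Module.End ℂ (Wf φ hφ hK ρ))ˣ :=
  (actW φ hφ hK ρ).toHomUnits

theorem coe_RW (g : ↥(NW φ hφ hK ρ)) (w : Wf φ hφ hK ρ) :
    (((RW φ hφ hK ρ g : Module.End ℂ (Wf φ hφ hK ρ)) w : Wf φ hφ hK ρ) : U) = ρ g.1 (w : U) := rfl

theorem xC_add (a b : Fld φ) :
    (xA φ hφ hK ∘ iC φ) (a + b) = (xA φ hφ hK ∘ iC φ) a * (xA φ hφ hK ∘ iC φ) b := by
  simp [map_add, xA_add]

/-- membership from the action on the highest root group -/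
theorem mem_NW {g : GL chevD4.Idx K} (hg : g ∈ twistedD4 K q) (k : Fld φ) (hk : k ≠ 0)
    (h : ∀ c : K, g * X 23 c * g⁻¹ = X 23 ((k : K) * c)) : (⟨g, hg⟩ : ↥(twistedD4 K q)) ∈ NW φ hφ hK ρ := by
  refine proj_conj (T := fun c => k * c) (mulLeft_bijective₀ k hk) (fun a b => mul_add k a b)
    (fun a => conj_form (Subtype.ext ?_)) (fun a => rfl)
  show g * (xA φ hφ hK (iC φ a) : GL chevD4.Idx K) * g⁻¹ = (xA φ hφ hK (iC φ (k * a)) : GL chevD4.Idx K)
  rw [coe_xA_iC, coe_xA_iC, h]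
  rfl

theorem mem_NW_C23 {g : GL chevD4.Idx K} (hg : g ∈ twistedD4 K q) (h : g ∈ C23 K) :
    (⟨g, hg⟩ : ↥(twistedD4 K q)) ∈ NW φ hφ hK ρ := by
  refine mem_NW φ hφ hK ρ hg 1 one_ne_zero fun c => ?_
  rw [← Subgroup.mem_centralizer_iff.1 h _ ⟨c, rfl⟩, mul_inv_cancel_right, OneMemClass.coe_one, one_mul]

/-- the highest root group acts trivially -/
theorem RW_top (g : ↥(NW φ hφ hK ρ)) (c : Fld φ) (hg : (g.1 : GL chevD4.Idx K) = X 23 (c : K)) :
    RW φ hφ hK ρ g = 1 := by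
  have hg' : g.1 = (xA φ hφ hK ∘ iC φ) c := Subtype.ext (by rw [hg, Function.comp_apply, coe_xA_iC])
  refine Units.ext (LinearMap.ext fun w => Subtype.ext ?_)
  obtain ⟨_, v, rfl⟩ := w
  show ρ g.1 (PC φ hφ hK ρ v) = PC φ hφ hK ρ v
  rw [hg']
  have := LinearMap.congr_fun (rho_mul_proj (ρ := ρ) (xC_add φ hφ hK) 1 c) v
  simpa [PC] using this

/-- congruent elements act alike -/
theorem RW_cong {a b : ↥(NW φ hφ hK ρ)}
    (h : Cong (a.1 : GL chevD4.Idx K) (b.1 : GL chevD4.Idx K)) : RW φ hφ hK ρ a = RW φ hφ hK ρ b := by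
  obtain ⟨c, hc⟩ := h
  have he : ((b⁻¹ * a).1 : GL chevD4.Idx K) = X 23 c := by
    show (b.1 : GL chevD4.Idx K)⁻¹ * (a.1 : GL chevD4.Idx K) = _
    rw [hc, inv_mul_cancel_left]
  have hm : (X 23 c : GL chevD4.Idx K) ∈ twistedD4 K q := he ▸ (b⁻¹ * a).1.2
  rw [D4.eq_fixed φ hφ hK] at hm
  have hfix := hm.2
  rw [act_xg φ (by norm_num) sym_vals.2.2.1] at hfix
  have hcf : φ c = c := by
    have := D4.checked.xg_inj (by norm_num [n24]) hfix
    simpa [sgn] using this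
  have h1 := RW_top φ hφ hK ρ (b⁻¹ * a) ⟨c, hcf⟩ he
  rw [map_mul, map_inv, inv_mul_eq_one] at h1
  exact h1.symm

omit hφ hK in
theorem jV_add (f g : CoV φ) : jV φ (f + g) = jV φ f + jV φ g := by
  simp [jV]

/-- the radical inside the stabiliser -/
noncomputable def xN (f : CoV φ) : ↥(NW φ hφ hK ρ) :=
  ⟨⟨xV φ (jV φ f), mul_mem (mul_mem (mul_mem (xg_fixed φ hφ hK (by simp) (fld_spec φ _)) (aG_fixed φ hφ hK _))
    (bG_fixed φ hφ hK _)) (xg_fixed φ hφ hK (by simp) (fld_spec φ _))⟩,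
    mem_NW_C23 φ hφ hK ρ _ (xV_mem φ _)⟩

/-- the abelian group of operators coming from the radical -/
noncomputable def xW (f : CoV φ) : (Module.End ℂ (Wf φ hφ hK ρ))ˣ := RW φ hφ hK ρ (xN φ hφ hK ρ f)

theorem xW_add (f g : CoV φ) : xW φ hφ hK ρ (f + g) = xW φ hφ hK ρ f * xW φ hφ hK ρ g := by
  rw [xW, xW, xW, ← map_mul]
  refine (RW_cong φ hφ hK ρ ?_).symm
  show Cong (xV φ (jV φ f) * xV φ (jV φ g)) (xV φ (jV φ (f + g)))
  rw [jV_add]
  exact xV_add φ _ _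

/-- the multiplicities on the fixed space -/
noncomputable def multW (χ : AddChar (CoV φ) ℂ) : ℕ :=
  mult (Units.coeHom (Module.End ℂ (Wf φ hφ hK ρ)) : Representation ℂ (Module.End ℂ (Wf φ hφ hK ρ))ˣ _)
    (xW φ hφ hK ρ) χ

/-- the first coordinate -/
def iW : Fld φ →+ CoV φ := AddMonoidHom.inl _ _

variable [FiniteDimensional ℂ U]

theorem sum_multW : ∑ χ : AddChar (CoV φ) ℂ, multW φ hφ hK ρ χ = mult ρ (xA φ hφ hK ∘ iC φ) 1 :=
  sum_mult (ρ := (Units.coeHom _ : Representation ℂ (Module.End ℂ (Wf φ hφ hK ρ))ˣ _)) (xW_add φ hφ hK ρ)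

theorem sum_multW_s : ∑ χ ∈ fibre (iW φ) 1, multW φ hφ hK ρ χ = bothFix φ hφ hK ρ := by
  have hS : ∀ a b, (xA φ hφ hK ∘ iS φ) (a + b) = (xA φ hφ hK ∘ iS φ) a * (xA φ hφ hK ∘ iS φ) b :=
    fun a b => by simp [map_add, xA_add]
  have hx := xW_add φ hφ hK ρ
  have hxi : ∀ a b, (xW φ hφ hK ρ ∘ iW φ) (a + b) =
      (xW φ hφ hK ρ ∘ iW φ) a * (xW φ hφ hK ρ ∘ iW φ) b := fun a b => by simp [map_add, hx]
  unfold multW
  rw [← mult_sub hx]
  refine Nat.cast_injective (R := ℂ) ?_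
  rw [← trace_both φ hφ hK ρ, ← trace_proj hxi]
  set Q := proj ρ (xA φ hφ hK ∘ iS φ) 1
  have hg : ∀ s : Fld φ, (xN φ hφ hK ρ (iW φ s)).1 = xA φ hφ hK (iS φ s) := fun s => by
    refine Subtype.ext ?_
    rw [coe_xA_iS]
    show xV φ (jV φ (iW φ s)) = _
    simp [jV, iW, ← xV_single14]
  have hcomm : Commute Q (PC φ hφ hK ρ) := by
    refine Commute.smul_left (Commute.sum_left _ _ _ fun s _ => Commute.smul_left ?_ _) _
    rw [Function.comp_apply, ← hg]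
    exact (xN φ hφ hK ρ (iW φ s)).2
  have e : proj (Units.coeHom _ : Representation ℂ (Module.End ℂ (Wf φ hφ hK ρ))ˣ _)
      (xW φ hφ hK ρ ∘ iW φ) 1 = ((PC φ hφ hK ρ).rangeRestrict ∘ₗ Q) ∘ₗ (Wf φ hφ hK ρ).subtype := by
    refine LinearMap.ext fun w => Subtype.ext ?_
    have h1 : (((PC φ hφ hK ρ).rangeRestrict ∘ₗ Q) ∘ₗ (Wf φ hφ hK ρ).subtype) w =
        PC φ hφ hK ρ (Q (w : U)) := rfl
    rw [h1]
    obtain ⟨_, v, rfl⟩ := w
    show _ = (PC φ hφ hK ρ * Q * PC φ hφ hK ρ) v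
    rw [← hcomm.eq, mul_assoc, show PC φ hφ hK ρ * PC φ hφ hK ρ = PC φ hφ hK ρ from
      (proj_mul_proj (xC_add φ hφ hK) _ _).trans (if_pos rfl)]
    simp only [Q, proj, xW, Units.coeHom_apply, LinearMap.smul_apply, LinearMap.coe_sum, Finset.sum_apply,
      Submodule.coe_smul, Submodule.coe_sum, Function.comp_apply, Module.End.mul_apply, coe_RW, hg,
      AddChar.one_apply, one_smul]
  rw [e, LinearMap.trace_comp_comm', ← LinearMap.comp_assoc,
    show (Wf φ hφ hK ρ).subtype ∘ₗ (PC φ hφ hK ρ).rangeRestrict = PC φ hφ hK ρ from rfl,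
    ← Module.End.mul_eq_comp, ← hcomm.eq]
  rfl

/-- an element of the stabiliser permutes the characters -/
theorem multW_comp (g : ↥(NW φ hφ hK ρ)) (T : CoV φ →+ CoV φ) (hT : Function.Injective T)
    (h : ∀ f, Cong ((g.1 : GL chevD4.Idx K) * xV φ (jV φ f) * (g.1 : GL chevD4.Idx K)⁻¹) (xV φ (jV φ (T f))))
    (χ : AddChar (CoV φ) ℂ) : multW φ hφ hK ρ (χ.compAddMonoidHom T) = multW φ hφ hK ρ χ := by
  refine mult_conj (xW_add φ hφ hK ρ) (xW_add φ hφ hK ρ) (g := RW φ hφ hK ρ g) T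
    (Finite.injective_iff_bijective.1 hT) (map_add T) (fun f => conj_form ?_) (fun f => rfl)
  rw [xW, xW, ← map_inv, ← map_mul, ← map_mul]
  exact RW_cong φ hφ hK ρ (h f)

end Cfsg.Agent.Lib.MinDegChev
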