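import Cfsg.Agent.Lib.MinDegChev.TriD4Deg
import Cfsg.Agent.Lib.Char.Integral
import Cfsg.Agent.Lib.Chev.TwistOrder
import Cfsg.Agent.S1071

/-!
The smallest nontrivial degree of `³D₄(q)`.
-/

set_option autoImplicit false
set_option maxRecDepth 4000

namespace Cfsg.Agent.Lib.MinDegChev

open Cfsg Cfsg.Lie Cfsg.Agent.Lib Cfsg.Agent.Lib.Chev Cfsg.Agent.Lib.MinDegForms Module

theorem faithful_triD4 {K : Type*} [Field K] [Fintype K] {q : ℕ} (hq : IsPrimePow q)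
    (hK : Fintype.card K = q ^ 3) {k : ℕ} (ρ : Representation ℂ ↥(twistedD4 K q) (Fin k → ℂ))
    (hirr : ρ.IsIrreducible) (hk : 2 ≤ k) {g : ↥(twistedD4 K q)} (hg : g ≠ 1) : ρ g ≠ 1 := by
  obtain ⟨hs, hnc⟩ := Cfsg.Agent.S1071.result (K := K) hq hK
  haveI := hs
  have hz : Subgroup.center ↥(twistedD4 K q) = ⊥ := by
    refine (Subgroup.Normal.eq_bot_or_eq_top inferInstance).resolve_right fun h => hnc ⟨⟨fun a b => ?_⟩⟩
    have ha : a ∈ Subgroup.center ↥(twistedD4 K q) := h ▸ Subgroup.mem_top a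
    exact (Subgroup.mem_center_iff.1 ha b).symm
  haveI : IsSimpleGroup (↥(twistedD4 K q) ⧸ Subgroup.center ↥(twistedD4 K q)) :=
    MulEquiv.isSimpleGroup ((QuotientGroup.quotientMulEquivOfEq hz).trans QuotientGroup.quotientBot)
  exact rho_ne_one ρ hirr hk (by rw [hz, Subgroup.mem_bot]; exact hg)

theorem order_no_dvd {q : ℕ} (hq : 2 ≤ q) :
    ¬ (q - 1) * (q ^ 4 + q ^ 3 + 1) ∣ q ^ 12 * (q ^ 2 - 1) * (q ^ 6 - 1) * (q ^ 8 + q ^ 4 + 1) := by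
  intro h
  have h2 : 1 ≤ q ^ 2 := Nat.one_le_pow _ _ (by omega)
  have h6 : 1 ≤ q ^ 6 := Nat.one_le_pow _ _ (by omega)
  have e : q ^ 12 * (q ^ 2 - 1) * (q ^ 6 - 1) * (q ^ 8 + q ^ 4 + 1) =
      (q - 1) * (q ^ 12 * ((q + 1) * (q ^ 6 - 1) * (q ^ 8 + q ^ 4 + 1))) := by
    zify [h2, h6, show 1 ≤ q by omega]; ring
  rw [e] at h
  have hm := Nat.dvd_of_mul_dvd_mul_left (by omega) h
  have hcop : Nat.Coprime (q ^ 4 + q ^ 3 + 1) (q ^ 12) := by
    refine Nat.Coprime.pow_right _ ?_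
    rw [show q ^ 4 + q ^ 3 + 1 = 1 + q * (q ^ 3 + q ^ 2) by ring, Nat.coprime_add_mul_left_left]
    exact Nat.coprime_one_left q
  have hm' := Int.natCast_dvd_natCast.2 (hcop.dvd_of_dvd_mul_left hm)
  push_cast [h6] at hm'
  set z : ℤ := (q : ℤ)
  have e2 : (z + 1) * (z ^ 6 - 1) * (z ^ 8 + z ^ 4 + 1) = (z ^ 4 + z ^ 3 + 1) *
      (z ^ 11 + z ^ 6 - 2 * z ^ 5 + z ^ 4 + z - 3) + (3 * z ^ 3 - 2 * z + 2) := by ring
  rw [e2, Int.dvd_add_right (dvd_mul_right _ _)] at hm'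
  have hz : (2 : ℤ) ≤ z := Int.ofNat_le.2 hq
  have h3 : 4 * z ≤ z ^ 3 := by nlinarith [mul_le_mul hz hz (by norm_num) (by linarith)]
  have := Int.le_of_dvd (by linarith) hm'
  nlinarith [mul_le_mul_of_nonneg_right hz (show (0 : ℤ) ≤ z ^ 3 by positivity)]

theorem triD4_min_degree {K : Type*} [Field K] [Fintype K] {q : ℕ} (hq : IsPrimePow q)
    (hK : Fintype.card K = q ^ 3) (k : ℕ) (ρ : Representation ℂ ↥(twistedD4 K q) (Fin k → ℂ))
    (hirr : ρ.IsIrreducible) (hk : 2 ≤ k) : q * (q ^ 4 - q ^ 2 + 1) ≤ k := by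
  classical
  have hq2 : 2 ≤ q := hq.two_le
  obtain ⟨φ, hφ⟩ := exists_frob hq (by norm_num) hK
  letI : Fintype (Fld φ) := Fintype.ofFinite _
  have hne : ∃ c : Fld φ, ρ (xA φ hφ hK (iC φ c)) ≠ 1 := by
    refine ⟨1, faithful_triD4 hq hK ρ hirr hk fun h => ?_⟩
    have h1 := congrArg Subtype.val h
    rw [coe_xA_iC, OneMemClass.coe_one, OneMemClass.coe_one, ← D4.checked.xg_zero (F := K) 23] at h1
    exact one_ne_zero (D4.checked.xg_inj (by norm_num [n24]) h1)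
  obtain ⟨μ, hμ, hdim, hD⟩ := counts φ hφ hK ρ hq2 hne
  rw [Module.finrank_pi, Fintype.card_fin] at hdim
  have hA : q ^ 5 - q ^ 4 + (q ^ 4 - q ^ 3) = q ^ 5 - q ^ 3 := by
    have := Nat.pow_le_pow_right (show 1 ≤ q by omega) (show 4 ≤ 5 by norm_num)
    have := Nat.pow_le_pow_right (show 1 ≤ q by omega) (show 3 ≤ 4 by norm_num)
    omega
  have hk1 : k = bothFix φ hφ hK ρ + (q ^ 5 - q ^ 3) * μ := by
    calc k = _ := hdim
      _ = _ := by rw [hD, ← hA]; ring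
  have hgoal : q * (q ^ 4 - q ^ 2 + 1) = q ^ 5 - q ^ 3 + q := by
    have h1 : q ^ 2 ≤ q ^ 4 := Nat.pow_le_pow_right (by omega) (by norm_num)
    have h2 : q ^ 3 ≤ q ^ 5 := Nat.pow_le_pow_right (by omega) (by norm_num)
    zify [h1, h2]; ring
  have hbig : q ≤ q ^ 5 - q ^ 3 := by
    have h4 : 4 * q ^ 3 ≤ q ^ 5 := by nlinarith [Nat.mul_le_mul hq2 hq2]
    have h3 : q ≤ q ^ 3 := Nat.le_self_pow (by norm_num) q
    omega
  rw [hgoal]
  rcases Nat.lt_or_ge μ 2 with h | h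
  · obtain rfl : μ = 1 := by omega
    rw [mul_one] at hD
    have hE := bothFix_ge φ hφ hK hq2 ρ hD
    by_contra hlt
    have he : k = (q - 1) * (q ^ 4 + q ^ 3 + 1) := by
      have : k = q ^ 5 - q ^ 3 + (q - 1) := by rw [mul_one] at hk1; omega
      rw [this]
      have h2 : q ^ 3 ≤ q ^ 5 := Nat.pow_le_pow_right (by omega) (by norm_num)
      zify [h2, show 1 ≤ q by omega]; ring
    have hdvd := Cfsg.Agent.Lib.Char.irr_degree_dvd_card (G := ↥(twistedD4 K q)) (χ := ρ.character)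
      ⟨k, ρ, hirr, rfl⟩ (n := k) (by simp)
    rw [D4.card_twisted φ hφ hq2 hK, he] at hdvd
    exact order_no_dvd hq2 hdvd
  · have := Nat.mul_le_mul_left (q ^ 5 - q ^ 3) h
    omega

end Cfsg.Agent.Lib.MinDegChev
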