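import Cfsg.Agent.Lib.MinDegChev.TriD4Base

/-!
The radical of the Heisenberg parabolic of `³D₄(q)` modulo its centre, and the action of the Levi root group.
-/

set_option autoImplicit false
set_option maxRecDepth 4000

namespace Cfsg.Agent.Lib.MinDegChev

open Cfsg.Lie Cfsg.Agent.Lib Cfsg.Agent.Lib.Chev

local notation "X" => Cfsg.Agent.Lib.Chev.Checked.xg D4.checked

variable (K : Type*) [Field K]

/-- the centraliser of the highest root group -/
def C23 : Subgroup (GL chevD4.Idx K) :=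
  Subgroup.centralizer (Set.range fun c : K => (X 23 c : GL chevD4.Idx K))

theorem mem_C23 {r : ℕ} (h : r ∈ 23 :: 18 :: 13 :: 12 :: radRoots) (hr : r < 24) (t : K) :
    (X r t : GL chevD4.Idx K) ∈ C23 K := by
  rw [C23, Subgroup.mem_centralizer_iff]
  rintro _ ⟨c, rfl⟩
  exact (comm_top r h hr t c).eq.symm

/-- the highest root group inside its centraliser -/
noncomputable def z23 : Multiplicative K →* ↥(C23 K) where
  toFun c := ⟨X 23 c.toAdd, mem_C23 K (by simp) (by norm_num) _⟩
  map_one' := Subtype.ext (D4.checked.xg_zero 23)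
  map_mul' a b := Subtype.ext (D4.checked.xg_add (by norm_num [n24]) _ _).symm

instance z23_normal : (z23 K).range.Normal := ⟨by
  rintro _ ⟨c, rfl⟩ g
  refine ⟨c, Subtype.ext ?_⟩
  have h := Subgroup.mem_centralizer_iff.1 g.2 _ ⟨c.toAdd, rfl⟩
  show X 23 c.toAdd = (g : GL chevD4.Idx K) * X 23 c.toAdd * (g : GL chevD4.Idx K)⁻¹
  rw [← h, mul_inv_cancel_right]⟩

/-- the centraliser of the highest root group modulo that group -/
abbrev CQ : Type _ := ↥(C23 K) ⧸ (z23 K).range

/-- the image of a root element in the quotient -/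
noncomputable def y (r : ℕ) (h : r ∈ 23 :: 18 :: 13 :: 12 :: radRoots ∧ r < 24) (t : K) : CQ K :=
  QuotientGroup.mk' _ ⟨X r t, mem_C23 K h.1 h.2 t⟩

variable {K}

theorem y_top (t : K) (h) : y K 23 h t = 1 :=
  (QuotientGroup.eq_one_iff _).2 ⟨Multiplicative.ofAdd t, rfl⟩

theorem y_add {r : ℕ} (h) (a b : K) : y K r h a * y K r h b = y K r h (a + b) := by
  rw [y, y, y, ← map_mul]
  exact congrArg _ (Subtype.ext (D4.checked.xg_add (by simpa [n24] using h.2) _ _))

theorem y_zero {r : ℕ} (h) : y K r h 0 = 1 := by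
  have : (⟨X r (0 : K), mem_C23 K h.1 h.2 0⟩ : ↥(C23 K)) = 1 := Subtype.ext (D4.checked.xg_zero r)
  rw [y, this, map_one]

theorem y_neg {r : ℕ} (h) (a : K) : y K r h (-a) = (y K r h a)⁻¹ :=
  eq_inv_of_mul_eq_one_left (by rw [y_add, neg_add_cancel, y_zero])

theorem y_rel {r s u : ℕ} {M : ℤ} (hr) (hs) (hu)
    (h : (r, s, u, M) ∈ [(18, 14, 19, (-1 : ℤ)), (18, 15, 20, -1), (18, 16, 21, -1), (18, 17, 22, -1),
      (13, 14, 16, 1), (13, 15, 17, 1), (13, 19, 21, 1), (13, 20, 22, 1),
      (12, 14, 15, 1), (12, 16, 17, 1), (12, 19, 20, 1), (12, 21, 22, 1),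
      (22, 14, 23, -1), (19, 17, 23, -1), (16, 20, 23, -1), (15, 21, 23, -1)]) (a b : K) :
    (y K r hr a)⁻¹ * y K s hs b * y K r hr a = y K s hs b * y K u hu (-(M : K) * a * b) := by
  rw [← y_neg, y, y, y, y, ← map_mul, ← map_mul, ← map_mul]
  exact congrArg _ (Subtype.ext (rel_pair r s u M hr.2 hs.2 h a b))

theorem y_comm {r s : ℕ} (hr) (hs) (h : (r, s) ∈ [(19, 16), (19, 15), (16, 15), (17, 20), (17, 21), (20, 21), (18, 13), (18, 12), (13, 12),
        (14, 19), (14, 16), (14, 15), (14, 17), (14, 20), (14, 21), (22, 19), (22, 16), (22, 15),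
        (22, 17), (22, 20), (22, 21), (19, 20), (19, 21), (16, 17), (16, 21), (15, 17), (15, 20),
        (18, 19), (18, 20), (18, 21), (18, 22), (13, 16), (13, 17), (13, 21), (13, 22), (12, 15),
        (12, 17), (12, 20), (12, 22)]) (a b : K) : Commute (y K r hr a) (y K s hs b) := by
  show _ * _ = _ * _
  rw [y, y, ← map_mul, ← map_mul]
  exact congrArg _ (Subtype.ext (comm_pair r s h hr.2 hs.2 a b).eq)

theorem y_comm_rel {r s : ℕ} {M : ℤ} (hr) (hs)
    (h : (r, s, 23, M) ∈ [(18, 14, 19, (-1 : ℤ)), (18, 15, 20, -1), (18, 16, 21, -1), (18, 17, 22, -1),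
      (13, 14, 16, 1), (13, 15, 17, 1), (13, 19, 21, 1), (13, 20, 22, 1),
      (12, 14, 15, 1), (12, 16, 17, 1), (12, 19, 20, 1), (12, 21, 22, 1),
      (22, 14, 23, -1), (19, 17, 23, -1), (16, 20, 23, -1), (15, 21, 23, -1)]) (a b : K) :
    Commute (y K r hr a) (y K s hs b) := by
  have := y_rel hr hs ⟨by simp, by norm_num⟩ h a b
  rw [y_top, mul_one] at this
  show _ = _
  calc y K r hr a * y K s hs b = y K r hr a * ((y K r hr a)⁻¹ * y K s hs b * y K r hr a) := by rw [this]
    _ = _ := by group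

theorem rad_mem {r : ℕ} (h : r ∈ radRoots) : r ∈ 23 :: 18 :: 13 :: 12 :: radRoots ∧ r < 24 := by
  simp only [radRoots, List.mem_cons, List.not_mem_nil, or_false] at h ⊢
  omega

theorem y_comm_rad {r s : ℕ} (hr : r ∈ radRoots) (hs : s ∈ radRoots) (a b : K) :
    Commute (y K r (rad_mem hr) a) (y K s (rad_mem hs) b) := by
  by_cases e : r = s
  · subst e
    show _ = _
    rw [y_add, y_add, add_comm]
  simp only [radRoots, List.mem_cons, List.not_mem_nil, or_false] at hr hs
  rcases hr with rfl | rfl | rfl | rfl | rfl | rfl | rfl | rfl <;>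
    rcases hs with rfl | rfl | rfl | rfl | rfl | rfl | rfl | rfl
  all_goals first
    | exact absurd rfl e
    | (refine y_comm _ _ ?_ a b; simp; done)
    | (refine (y_comm _ _ ?_ b a).symm; simp; done)
    | (refine y_comm_rel (M := -1) _ _ ?_ a b; simp; done)
    | (refine (y_comm_rel (M := -1) _ _ ?_ b a).symm; simp; done)

/-- coordinates on the radical modulo its centre -/
abbrev V8 (K : Type*) : Type _ := K × K × K × K × K × K × K × K

/-- the parametrisation of the radical modulo its centre -/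
noncomputable def psi (f : V8 K) : CQ K :=
  y K 14 (rad_mem (by simp [radRoots])) f.1 * (y K 15 (rad_mem (by simp [radRoots])) f.2.1 *
    (y K 16 (rad_mem (by simp [radRoots])) f.2.2.1 * (y K 17 (rad_mem (by simp [radRoots])) f.2.2.2.1 *
      (y K 19 (rad_mem (by simp [radRoots])) f.2.2.2.2.1 * (y K 20 (rad_mem (by simp [radRoots])) f.2.2.2.2.2.1 *
        (y K 21 (rad_mem (by simp [radRoots])) f.2.2.2.2.2.2.1 *
          y K 22 (rad_mem (by simp [radRoots])) f.2.2.2.2.2.2.2))))))

theorem psi_add (f g : V8 K) : psi (f + g) = psi f * psi g := by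
  have c := fun r s (hr : r ∈ radRoots) (hs : s ∈ radRoots) => y_comm_rad (K := K) hr hs
  have step : ∀ {A A' R R' : CQ K}, Commute R A' → (A * R) * (A' * R') = (A * A') * (R * R') :=
    fun h => h.mul_mul_mul_comm _ _
  unfold psi
  symm
  refine (step ?_).trans (congrArg₂ (· * ·) (y_add _ _ _) ((step ?_).trans (congrArg₂ (· * ·) (y_add _ _ _)
    ((step ?_).trans (congrArg₂ (· * ·) (y_add _ _ _) ((step ?_).trans (congrArg₂ (· * ·) (y_add _ _ _)
      ((step ?_).trans (congrArg₂ (· * ·) (y_add _ _ _) ((step ?_).trans (congrArg₂ (· * ·) (y_add _ _ _)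
        ((step ?_).trans (congrArg₂ (· * ·) (y_add _ _ _) (y_add _ _ _))))))))))))))
  all_goals repeat' apply Commute.mul_left
  all_goals exact c _ _ (by simp [radRoots]) (by simp [radRoots]) _ _

/-- Conjugation by `x_m(a)` in coordinates, for `m = 18, 13, 12`. -/
def T18 (a : K) (f : V8 K) : V8 K :=
  (f.1, f.2.1, f.2.2.1, f.2.2.2.1, f.2.2.2.2.1 + a * f.1, f.2.2.2.2.2.1 + a * f.2.1,
    f.2.2.2.2.2.2.1 + a * f.2.2.1, f.2.2.2.2.2.2.2 + a * f.2.2.2.1)

/-- Conjugation by `x_13`. -/
def T13 (a : K) (f : V8 K) : V8 K :=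
  (f.1, f.2.1, f.2.2.1 - a * f.1, f.2.2.2.1 - a * f.2.1, f.2.2.2.2.1, f.2.2.2.2.2.1,
    f.2.2.2.2.2.2.1 - a * f.2.2.2.2.1, f.2.2.2.2.2.2.2 - a * f.2.2.2.2.2.1)

/-- Conjugation by `x_12`. -/
def T12 (a : K) (f : V8 K) : V8 K :=
  (f.1, f.2.1 - a * f.1, f.2.2.1, f.2.2.2.1 - a * f.2.2.1, f.2.2.2.2.1, f.2.2.2.2.2.1 - a * f.2.2.2.2.1,
    f.2.2.2.2.2.2.1, f.2.2.2.2.2.2.2 - a * f.2.2.2.2.2.2.1)

theorem psi_conj {m : ℕ} (hm) (a : K) (T : V8 K → V8 K)
    (hT : ∀ f g, T (f + g) = T f + T g)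
    (h : ∀ r (hr : r ∈ radRoots) (b : K), (y K m hm a)⁻¹ * y K r (rad_mem hr) b * y K m hm a =
      psi (T (if r = 14 then b else 0, if r = 15 then b else 0, if r = 16 then b else 0,
        if r = 17 then b else 0, if r = 19 then b else 0, if r = 20 then b else 0,
        if r = 21 then b else 0, if r = 22 then b else 0))) (f : V8 K) :
    (y K m hm a)⁻¹ * psi f * y K m hm a = psi (T f) := by
  obtain ⟨a14, a15, a16, a17, a19, a20, a21, a22⟩ := f
  have conj : ∀ p q : CQ K, (y K m hm a)⁻¹ * (p * q) * y K m hm a =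
      ((y K m hm a)⁻¹ * p * y K m hm a) * ((y K m hm a)⁻¹ * q * y K m hm a) := fun p q => by group
  conv_lhs => rw [psi]
  simp only [conj]
  rw [h 14 (by simp [radRoots]), h 15 (by simp [radRoots]), h 16 (by simp [radRoots]), h 17 (by simp [radRoots]),
    h 19 (by simp [radRoots]), h 20 (by simp [radRoots]), h 21 (by simp [radRoots]), h 22 (by simp [radRoots])]
  simp only [← psi_add, ← hT]
  norm_num

theorem psi_conj18 (a : K) (hm) (f : V8 K) : (y K 18 hm a)⁻¹ * psi f * y K 18 hm a = psi (T18 a f) := by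
  refine psi_conj hm a _ (fun f g => by
    ext <;> simp only [T18, Prod.fst_add, Prod.snd_add] <;> ring) (fun r hr b => ?_) f
  simp only [radRoots, List.mem_cons, List.not_mem_nil, or_false] at hr
  rcases hr with rfl | rfl | rfl | rfl | rfl | rfl | rfl | rfl
  · rw [y_rel (M := -1) (u := 19) hm _ (rad_mem (by simp [radRoots])) (by simp) a b]
    norm_num [psi, T18, y_zero]
  · rw [y_rel (M := -1) (u := 20) hm _ (rad_mem (by simp [radRoots])) (by simp) a b]
    norm_num [psi, T18, y_zero]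
  · rw [y_rel (M := -1) (u := 21) hm _ (rad_mem (by simp [radRoots])) (by simp) a b]
    norm_num [psi, T18, y_zero]
  · rw [y_rel (M := -1) (u := 22) hm _ (rad_mem (by simp [radRoots])) (by simp) a b]
    norm_num [psi, T18, y_zero]
  · rw [mul_assoc, ((y_comm hm (rad_mem (by simp [radRoots])) (by simp) a b).symm).eq, inv_mul_cancel_left]
    norm_num [psi, T18, y_zero]
  · rw [mul_assoc, ((y_comm hm (rad_mem (by simp [radRoots])) (by simp) a b).symm).eq, inv_mul_cancel_left]
    norm_num [psi, T18, y_zero]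
  · rw [mul_assoc, ((y_comm hm (rad_mem (by simp [radRoots])) (by simp) a b).symm).eq, inv_mul_cancel_left]
    norm_num [psi, T18, y_zero]
  · rw [mul_assoc, ((y_comm hm (rad_mem (by simp [radRoots])) (by simp) a b).symm).eq, inv_mul_cancel_left]
    norm_num [psi, T18, y_zero]

theorem psi_conj13 (a : K) (hm) (f : V8 K) : (y K 13 hm a)⁻¹ * psi f * y K 13 hm a = psi (T13 a f) := by
  refine psi_conj hm a _ (fun f g => by
    ext <;> simp only [T13, Prod.fst_add, Prod.snd_add] <;> ring) (fun r hr b => ?_) f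
  simp only [radRoots, List.mem_cons, List.not_mem_nil, or_false] at hr
  rcases hr with rfl | rfl | rfl | rfl | rfl | rfl | rfl | rfl
  · rw [y_rel (M := 1) (u := 16) hm _ (rad_mem (by simp [radRoots])) (by simp) a b]
    norm_num [psi, T13, y_zero]
  · rw [y_rel (M := 1) (u := 17) hm _ (rad_mem (by simp [radRoots])) (by simp) a b]
    norm_num [psi, T13, y_zero]
  · rw [mul_assoc, ((y_comm hm (rad_mem (by simp [radRoots])) (by simp) a b).symm).eq, inv_mul_cancel_left]
    norm_num [psi, T13, y_zero]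
  · rw [mul_assoc, ((y_comm hm (rad_mem (by simp [radRoots])) (by simp) a b).symm).eq, inv_mul_cancel_left]
    norm_num [psi, T13, y_zero]
  · rw [y_rel (M := 1) (u := 21) hm _ (rad_mem (by simp [radRoots])) (by simp) a b]
    norm_num [psi, T13, y_zero]
  · rw [y_rel (M := 1) (u := 22) hm _ (rad_mem (by simp [radRoots])) (by simp) a b]
    norm_num [psi, T13, y_zero]
  · rw [mul_assoc, ((y_comm hm (rad_mem (by simp [radRoots])) (by simp) a b).symm).eq, inv_mul_cancel_left]
    norm_num [psi, T13, y_zero]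
  · rw [mul_assoc, ((y_comm hm (rad_mem (by simp [radRoots])) (by simp) a b).symm).eq, inv_mul_cancel_left]
    norm_num [psi, T13, y_zero]

theorem psi_conj12 (a : K) (hm) (f : V8 K) : (y K 12 hm a)⁻¹ * psi f * y K 12 hm a = psi (T12 a f) := by
  refine psi_conj hm a _ (fun f g => by
    ext <;> simp only [T12, Prod.fst_add, Prod.snd_add] <;> ring) (fun r hr b => ?_) f
  simp only [radRoots, List.mem_cons, List.not_mem_nil, or_false] at hr
  rcases hr with rfl | rfl | rfl | rfl | rfl | rfl | rfl | rfl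
  · rw [y_rel (M := 1) (u := 15) hm _ (rad_mem (by simp [radRoots])) (by simp) a b]
    norm_num [psi, T12, y_zero]
  · rw [mul_assoc, ((y_comm hm (rad_mem (by simp [radRoots])) (by simp) a b).symm).eq, inv_mul_cancel_left]
    norm_num [psi, T12, y_zero]
  · rw [y_rel (M := 1) (u := 17) hm _ (rad_mem (by simp [radRoots])) (by simp) a b]
    norm_num [psi, T12, y_zero]
  · rw [mul_assoc, ((y_comm hm (rad_mem (by simp [radRoots])) (by simp) a b).symm).eq, inv_mul_cancel_left]
    norm_num [psi, T12, y_zero]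
  · rw [y_rel (M := 1) (u := 20) hm _ (rad_mem (by simp [radRoots])) (by simp) a b]
    norm_num [psi, T12, y_zero]
  · rw [mul_assoc, ((y_comm hm (rad_mem (by simp [radRoots])) (by simp) a b).symm).eq, inv_mul_cancel_left]
    norm_num [psi, T12, y_zero]
  · rw [y_rel (M := 1) (u := 22) hm _ (rad_mem (by simp [radRoots])) (by simp) a b]
    norm_num [psi, T12, y_zero]
  · rw [mul_assoc, ((y_comm hm (rad_mem (by simp [radRoots])) (by simp) a b).symm).eq, inv_mul_cancel_left]
    norm_num [psi, T12, y_zero]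

end Cfsg.Agent.Lib.MinDegChev
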