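import Cfsg.Agent.Lib.MinDegChev.TriD4Field
import Cfsg.Agent.Lib.Chev.FieldAut

/-!
Multiplicities of the characters of the abelian subgroup `X_23 X_14 aG` of `³D₄(q)`.
-/

set_option autoImplicit false
set_option maxRecDepth 4000

namespace Cfsg.Agent.Lib.MinDegChev

open Cfsg.Lie Cfsg.Agent.Lib Cfsg.Agent.Lib.Chev Cfsg.Agent.Lib.MinDegForms Module

local notation "X" => Cfsg.Agent.Lib.Chev.Checked.xg D4.checked
local notation "H" => Cfsg.Agent.Lib.Chev.Checked.hg D4.checked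
local notation "N₀" => Cfsg.Agent.Lib.Chev.Checked.ng D4.checked

variable {K : Type*} [Field K] [Fintype K] {q : ℕ} (φ : K ≃+* K)

/-- coordinates of the abelian subgroup -/
abbrev CoA : Type _ := Fld φ × Fld φ × K

omit [Fintype K] in
theorem finite_fld [Finite K] : Finite (Fld φ) := inferInstance

variable (hφ : ∀ t, φ t = t ^ q) (hK : Fintype.card K = q ^ 3)

/-- the abelian subgroup -/
noncomputable def xA (a : CoA φ) : ↥(twistedD4 K q) :=
  ⟨X 23 (a.1 : K) * X 14 (a.2.1 : K) * aG φ a.2.2,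
    mul_mem (mul_mem (xg_fixed φ hφ hK (by simp) (fld_spec φ _)) (xg_fixed φ hφ hK (by simp) (fld_spec φ _)))
      (aG_fixed φ hφ hK _)⟩

theorem xA_add (a b : CoA φ) : xA φ hφ hK (a + b) = xA φ hφ hK a * xA φ hφ hK b := by
  refine Subtype.ext (Eq.symm ?_)
  show X 23 (a.1 : K) * X 14 (a.2.1 : K) * aG φ a.2.2 * (X 23 (b.1 : K) * X 14 (b.2.1 : K) * aG φ b.2.2) =
    X 23 ((a + b).1 : K) * X 14 ((a + b).2.1 : K) * aG φ (a + b).2.2
  have h1 : Commute (X 23 (b.1 : K)) (X 14 (a.2.1 : K) * aG φ a.2.2) :=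
    (top_comm_bot _ _).mul_right (top_comm_aG φ _ _)
  have h2 : Commute (aG φ a.2.2) (X 14 (b.2.1 : K)) := (bot_comm_aG φ _ _).symm
  rw [mul_assoc (X 23 (a.1 : K)) (X 14 (a.2.1 : K)), mul_assoc (X 23 (b.1 : K)) (X 14 (b.2.1 : K)),
    h1.symm.mul_mul_mul_comm, h2.mul_mul_mul_comm, D4.checked.xg_add (by norm_num [n24]),
    D4.checked.xg_add (by norm_num [n24]), aG_add, ← mul_assoc]
  simp only [Prod.fst_add, Prod.snd_add, AddMemClass.coe_add]

/-- the highest root coordinate -/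
def iC : Fld φ →+ CoA φ := AddMonoidHom.inl _ _

/-- the lowest root coordinate -/
def iS : Fld φ →+ CoA φ := (AddMonoidHom.inr (Fld φ) (Fld φ × K)).comp (AddMonoidHom.inl _ _)

theorem coe_xA_iC (c : Fld φ) : (xA φ hφ hK (iC φ c) : GL chevD4.Idx K) = X 23 (c : K) := by
  simp [xA, iC, aG_zero, D4.checked.xg_zero]

theorem coe_xA_iS (s : Fld φ) : (xA φ hφ hK (iS φ s) : GL chevD4.Idx K) = X 14 (s : K) := by
  simp [xA, iS, aG_zero, D4.checked.xg_zero]

theorem conj_form {G : Type*} [Group G] {g a b : G} (h : g * a * g⁻¹ = b) : g * a = b * g := by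
  rw [← h, inv_mul_cancel_right]

variable {V : Type*} [AddCommGroup V] [Module ℂ V] [FiniteDimensional ℂ V]
  (ρ : Representation ℂ ↥(twistedD4 K q) V) (hq : 2 ≤ q)
include hq

/-- All the characters which are nontrivial on the highest root group occur equally often. -/
theorem mult_top_eq [Fintype (Fld φ)] (χ χ' : AddChar (CoA φ) ℂ)
    (hχ : χ.compAddMonoidHom (iC φ) ≠ 1) (hχ' : χ'.compAddMonoidHom (iC φ) ≠ 1) :
    mult ρ (xA φ hφ hK) χ = mult ρ (xA φ hφ hK) χ' := by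
  have hx := xA_add φ hφ hK
  let base : AddChar (Fld φ) ℂ → AddChar (CoA φ) ℂ := fun l => l.compAddMonoidHom (AddMonoidHom.fst _ _)
  have main : ∀ ξ : AddChar (CoA φ) ℂ, ξ.compAddMonoidHom (iC φ) ≠ 1 →
      mult ρ (xA φ hφ hK) ξ = mult ρ (xA φ hφ hK) (base (ξ.compAddMonoidHom (iC φ))) := by
    intro ξ hξ
    set l := ξ.compAddMonoidHom (iC φ) with hl
    obtain ⟨s', hs'⟩ := exists_mulShift_field hξ (ξ.compAddMonoidHom (iS φ))
    obtain ⟨w, hw⟩ := exists_mulShift_field (lamK_ne φ hφ hK hq hξ)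
      (ξ.compAddMonoidHom ((AddMonoidHom.inr (Fld φ) (Fld φ × K)).comp (AddMonoidHom.inr _ _)))
    let T : CoA φ → CoA φ := fun a => (a.1 + a.2.1 * s' - trF φ hφ hK hq (a.2.2 * -w), a.2.1, a.2.2)
    have hT : Function.Bijective T := by
      refine ⟨fun a b h => ?_, fun a => ⟨(a.1 - a.2.1 * s' + trF φ hφ hK hq (a.2.2 * -w), a.2.1, a.2.2), ?_⟩⟩
      · simp only [T, Prod.mk.injEq] at h
        obtain ⟨h1, h2, h3⟩ := h
        rw [h2, h3, sub_left_inj, add_left_inj] at h1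
        exact Prod.ext h1 (Prod.ext h2 h3)
      · simp only [T, Prod.mk.injEq, and_true]
        exact Prod.ext (by simp only; abel) rfl
    have hg : (X 22 (s' : K) * bG φ (-w) : GL chevD4.Idx K) ∈ twistedD4 K q :=
      mul_mem (xg_fixed φ hφ hK (by simp) (fld_spec φ _)) (bG_fixed φ hφ hK _)
    refine mult_conj hx hx (g := (⟨_, hg⟩ : ↥(twistedD4 K q))⁻¹) T hT (fun a b => ?_) (fun a => ?_) (fun a => ?_)
    · simp only [T, Prod.fst_add, Prod.snd_add, add_mul, map_add, Prod.mk_add_mk, Prod.mk.injEq, and_self, and_true]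
      abel
    · refine conj_form (Subtype.ext ?_)
      show (X 22 (s' : K) * bG φ (-w))⁻¹ * (X 23 (a.1 : K) * X 14 (a.2.1 : K) * aG φ a.2.2) *
          (X 22 (s' : K) * bG φ (-w))⁻¹⁻¹ =
        X 23 ((T a).1 : K) * X 14 ((T a).2.1 : K) * aG φ (T a).2.2
      have e := yB_conj φ (a.1 : K) a.2.1 a.2.2 (s' : K) (-w)
      simp only [T, AddSubgroupClass.coe_sub, AddMemClass.coe_add, MulMemClass.coe_mul, coe_trF]
      rw [← e]
      group
    · have e : a = iC φ a.1 + iS φ a.2.1 +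
          ((AddMonoidHom.inr (Fld φ) (Fld φ × K)).comp (AddMonoidHom.inr _ _)) a.2.2 := by
        simp [iC, iS]
      conv_rhs => rw [e, AddChar.map_add_eq_mul, AddChar.map_add_eq_mul, ← AddChar.compAddMonoidHom_apply ξ,
        ← AddChar.compAddMonoidHom_apply ξ, ← AddChar.compAddMonoidHom_apply ξ, ← hl, ← hs', ← hw]
      simp only [base, AddChar.compAddMonoidHom_apply, AddMonoidHom.coe_fst, T, AddChar.mulShift_apply,
        lamK, sub_eq_add_neg, ← map_neg, ← AddChar.map_add_eq_mul]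
      rw [mul_comm (s' : Fld φ), mul_neg, neg_neg, mul_comm w]
  rw [main χ hχ, main χ' hχ']
  obtain ⟨k, hk⟩ := exists_mulShift_field hχ' (χ.compAddMonoidHom (iC φ))
  have hk0 : k ≠ 0 := by
    rintro rfl
    exact hχ (by rw [← hk, AddChar.mulShift_zero])
  have hk1 : (k : K) ≠ 0 := by simpa using hk0
  let T : CoA φ → CoA φ := fun a => (k * a.1, k * k * a.2.1, (k : K) * a.2.2)
  have hT : Function.Bijective T := by
    refine ⟨fun a b h => ?_, fun a => ⟨(k⁻¹ * a.1, (k * k)⁻¹ * a.2.1, (k : K)⁻¹ * a.2.2), ?_⟩⟩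
    · simp only [T, Prod.mk.injEq] at h
      exact Prod.ext (mul_left_cancel₀ hk0 h.1)
        (Prod.ext (mul_left_cancel₀ (mul_ne_zero hk0 hk0) h.2.1) (mul_left_cancel₀ hk1 h.2.2))
    · simp [T, hk0, hk1, ← mul_assoc]
  refine mult_conj hx hx (g := (⟨_, hg_fixed φ hφ hK (r := 14) (by simp) hk1 (fld_spec φ k)⟩ : ↥(twistedD4 K q)))
    T hT (fun a b => ?_) (fun a => ?_) (fun a => ?_)
  · simp [T, mul_add]
  · refine conj_form (Subtype.ext ?_)
    show H 14 (k : K) * (X 23 (a.1 : K) * X 14 (a.2.1 : K) * aG φ a.2.2) * (H 14 (k : K))⁻¹ = _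
    rw [h14_conj φ hk1 (fld_spec φ k)]
    rfl
  · simp only [base, AddChar.compAddMonoidHom_apply, AddMonoidHom.coe_fst, T]
    have := DFunLike.congr_fun hk a.1
    simpa [AddChar.mulShift_apply, AddChar.compAddMonoidHom_apply] using this

end Cfsg.Agent.Lib.MinDegChev
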